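import Cfsg.Agent.FGS74.Bry.Leaf
import Cfsg.Agent.FGS74.GrossLen.TCase

/-!
# Elements annihilated by a geometric sum act as good isometries

The action on `R` modulo scalars of an element annihilated by a geometric sum of length `2 ^ f` has
trivial or exceptional top.
-/

set_option autoImplicit false
set_option linter.style.haveILetI false

open Module

namespace CfsgLib.FGS74.Bry

open CfsgLib.FGS74.GrossLen

universe u v w

variable {K : Type u} [Field K] {V : Type v} [AddCommGroup V] [Module K V] {H : Type w} [Group H]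
  {ψ : H →* Module.End K V} {R : Subgroup H}

/-- `R` modulo scalars is commutative. -/
noncomputable abbrev quoComm (hE : IsExt ψ R) : CommGroup (Quo ψ R) :=
  { (inferInstance : Group (Quo ψ R)) with mul_comm := hE.quo_mul_comm }

section

variable [Nontrivial V] (hE : IsExt ψ R)

/-- The commutator pairing. -/
noncomputable def qform : letI := quoComm hE; Quo ψ R →* Quo ψ R →* Kˣ :=
  letI := quoComm hE
  MonoidHom.mk'
    (fun a => MonoidHom.toHomUnits
      { toFun := qpair ψ R a, map_one' := hE.qpair_one_right a, map_mul' := hE.qpair_mul_right a })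
    fun a b => MonoidHom.ext fun c => Units.ext (hE.qpair_mul_left a b c)

theorem act_isom (h : H) : letI := quoComm hE; hE.act h ∈ isom (qform hE) :=
  fun a b => Units.ext (hE.qpair_act h a b)

variable [CharP K 2] [Finite H]

theorem form_qform : letI := quoComm hE; Form (qform hE) := by
  letI := quoComm hE
  haveI : Fintype (Quo ψ R) := Fintype.ofFinite _
  haveI : Fact (Nat.Prime 2) := ⟨Nat.prime_two⟩
  have hN := hE.card_quo_ne_zero (c := 2)
  refine ⟨?_, fun m => Units.ext (hE.qpair_self m), fun m hm => hE.eq_one_of_qpair fun k => ?_⟩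
  · rw [Ne, CharP.cast_eq_zero_iff K 2] at hN
    rw [Nat.card_eq_fintype_card]
    exact Nat.odd_iff.2 (Nat.two_dvd_ne_zero.1 hN)
  · have h1 : qpair ψ R k m = 1 := congrArg Units.val (hm k)
    have h2 := hE.qpair_swap m k
    rwa [h1, mul_one] at h2

/-- The bridge. -/
theorem good_of_tGood [FiniteDimensional K V] (hψ : Function.Injective ψ) {z : H} {f : ℕ}
    (hz : TGood V f (ψ z)) : letI := quoComm hE; Good (qform hE) f (hE.act z) := by
  classical
  letI := quoComm hE
  haveI : Fact (Nat.Prime 2) := ⟨Nat.prime_two⟩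
  haveI : Fintype (Quo ψ R) := Fintype.ofFinite _
  by_cases h1 : hE.act z ^ 2 ^ (f - 1) = 1
  · exact Or.inl h1
  have he : 2 ≤ f := by
    by_contra he
    obtain ⟨v, hv⟩ := exists_ne (0 : V)
    rcases (show f = 0 ∨ f = 1 by omega) with rfl | rfl
    · exact hv (by simpa using hz v)
    · haveI : CharP (Module.End K V) 2 :=
        charP_of_injective_algebraMap (FaithfulSMul.algebraMap_injective K _) 2
      have h := tGood_sum hz
      rw [show (2 : ℕ) ^ 1 = 2 from rfl, geom_sum_two, CharTwo.add_eq_zero] at h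
      refine h1 ?_
      rw [show z = 1 from hψ (by rw [map_one]; first | exact h | exact h.symm), map_one, one_pow]
  have hN := hE.card_quo_ne_zero (c := 2)
  have hpow : z ^ 2 ^ f = 1 := hψ (by rw [map_pow, (tGood_closed).pow_eq hz, map_one])
  have hB := form_qform hE
  set σ := hE.act z with hσ
  have hσq : σ ^ 2 ^ f = 1 := by rw [hσ, ← map_pow, hpow, map_one]
  have hiso : σ ∈ isom (qform hE) := act_isom hE z
  have hττ : top f σ * top f σ = 1 := by
    rw [top, ← pow_add, show 2 ^ (f - 1) + 2 ^ (f - 1) = 2 ^ f by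
      rw [← two_mul, ← pow_succ']; congr 1; omega, hσq]
  have hτi : top f σ ∈ isom (qform hE) := pow_mem hiso _
  set W := mns (top f σ) with hW
  have hWinv : ∀ {m}, m ∈ W → σ m ∈ W := fun {m} hm => by
    rw [hW, mem_mns, ← MulAut.mul_apply, top, ← pow_succ, pow_succ', MulAut.mul_apply,
      show (σ ^ 2 ^ (f - 1)) m = m⁻¹ from hm, map_inv]
  -- counting
  have hcard : Nat.card (halfFixed σ f) * Nat.card W = Fintype.card (Quo ψ R) := by
    rw [← Nat.card_prod, ← Nat.card_eq_fintype_card]
    refine Nat.card_eq_of_bijective (fun p : halfFixed σ f × W => (p.1 : Quo ψ R) * p.2) ⟨?_, fun m => ?_⟩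
    · rintro ⟨a, b⟩ ⟨a', b'⟩ (h : (a : Quo ψ R) * b = a' * b')
      have hq : (a' : Quo ψ R)⁻¹ * a = b' * (b : Quo ψ R)⁻¹ := by
        rw [inv_mul_eq_iff_eq_mul, ← mul_assoc, ← h, mul_inv_cancel_right]
      have h2 : (a' : Quo ψ R)⁻¹ * a = 1 := hB.eq_one_of_fix_inv (τ := top f σ)
        ((halfFixed σ f).mul_mem (inv_mem a'.2) a.2) (hq ▸ W.mul_mem b'.2 (inv_mem b.2))
      rw [inv_mul_eq_one] at h2
      rw [← h2] at h
      exact Prod.ext (Subtype.ext h2.symm) (Subtype.ext (mul_left_cancel h))
    · obtain ⟨c, w, hc, hw, rfl⟩ := hB.split hττ m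
      exact ⟨(⟨c, hc⟩, ⟨w, hw⟩), rfl⟩
  obtain ⟨hbd, heq⟩ := index_bound hE hN he hz hpow
  rw [← hσ] at hbd heq
  have hWle : Nat.card W ≤ (2 ^ f - 1) ^ 2 := by
    refine Nat.le_of_mul_le_mul_left ?_ (Nat.card_pos (α := halfFixed σ f))
    rw [hcard, mul_comm (Nat.card _)]
    exact hbd
  haveI : Nontrivial W := (Subgroup.nontrivial_iff_ne_bot W).2 (hB.mns_ne_bot hττ h1)
  let β : Additive W →+ Additive W →+ Additive Kˣ :=
    AddMonoidHom.mk' (fun a => AddMonoidHom.mk'
        (fun b => Additive.ofMul (qform hE (a.toMul : Quo ψ R) (b.toMul : Quo ψ R)))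
        fun b c => congrArg Additive.ofMul (map_mul (qform hE (a.toMul : Quo ψ R)) _ _))
      fun a b => AddMonoidHom.ext fun c => congrArg Additive.ofMul
        (DFunLike.congr_fun (map_mul (qform hE) _ _) (c.toMul : Quo ψ R))
  let S : AddMonoid.End (Additive W) := AddMonoidHom.mk'
    (fun a => Additive.ofMul (⟨σ (a.toMul : Quo ψ R), hWinv a.toMul.2⟩ : W))
    fun a b => Additive.toMul.injective (Subtype.ext (map_mul σ _ _))
  have hSpow : ∀ (i : ℕ) (a : Additive W),
      ((((S ^ i : AddMonoid.End (Additive W))) a).toMul : Quo ψ R) = (σ ^ i) (a.toMul : Quo ψ R) := by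
    intro i
    induction i with
    | zero => intro a; rfl
    | succ i ih =>
      intro a
      rw [pow_succ', pow_succ', MulAut.mul_apply, ← ih]
      rfl
  have hext : ∀ a b : Additive W, (a.toMul : Quo ψ R) = (b.toMul : Quo ψ R) → a = b := fun a b h =>
    Additive.toMul.injective (Subtype.ext h)
  obtain ⟨hr, hWcard, hexp, -, hnpow⟩ := plane_structure (W := Additive W) (σ := S) he
    (AddMonoidHom.ext fun a => hext _ _ ((hSpow _ a).trans a.toMul.2))
    (show Odd (Nat.card W) from hB.odd.of_dvd_nat W.card_subgroup_dvd_card)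
    hWle β
    (fun a b => congrArg Additive.ofMul (hiso _ _))
    (fun b hb => hext _ _ (hB.nd _ fun k => by
      obtain ⟨c, w, hc, hw, rfl⟩ := hB.split hττ k
      rw [map_mul, MonoidHom.mul_apply, hB.perp hτi hc b.toMul.2, one_mul]
      exact congrArg Additive.toMul (hb (Additive.ofMul ⟨w, hw⟩))))
  refine Or.inr ⟨he, hiso, hσq, hr, hWcard, fun w hw => ?_, fun m hm => ?_, fun w hw hw1 i h => ?_⟩
  · exact congrArg (fun a : Additive W => (a.toMul : Quo ψ R)) (hexp (Additive.ofMul ⟨w, hw⟩))
  · refine heq ?_ m hm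
    rw [← hcard, show Nat.card W = (2 ^ f - 1) ^ 2 from hWcard, mul_comm]
  · exact hnpow (Additive.ofMul ⟨w, hw⟩) (fun h0 => hw1 (congrArg
      (fun a : Additive W => (a.toMul : Quo ψ R)) h0)) i (hext _ _ h)

end

end CfsgLib.FGS74.Bry
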