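import Cfsg.Agent.FGS74.Bry.Exc

/-!
# The proper subgroup containing the norms

If a two-subgroup `D` does not centralise an odd solvable normal subgroup, in a representation in
characteristic two, then a proper subgroup of `D` contains the squares and all norms of elements
annihilated by geometric sums.
-/

set_option autoImplicit false
set_option linter.style.haveILetI false

open Module
open scoped commutatorElement

namespace CfsgLib.FGS74.Bry

open CfsgLib.FGS74.GrossLen

universe u v v' w w'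

variable {K : Type u} [Field K]

/-- A proper subgroup of `D` contains the squares and the norms. -/
def HasNormSub {V : Type v} [AddCommGroup V] [Module K V] {H : Type w} [Group H]
    (ψ : H →* Module.End K V) (D : Subgroup H) : Prop :=
  ∃ D' < D, (∀ d ∈ D, d * d ∈ D') ∧ ∀ (f : ℕ) (z c : H),
    z ∈ Subgroup.normalizer (D : Set H) → c ∈ D → TGood V f (ψ z) → TGood V f (ψ (c * z)) →
    nrm (2 ^ (f - 1)) z c ∈ D'

section Transfer

variable {V : Type v} [AddCommGroup V] [Module K V] {H : Type w} [Group H]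
  {ψ : H →* Module.End K V} {D : Subgroup H}

theorem map_mem_normalizer {H' : Type w'} [Group H'] (π : H →* H') {z : H}
    (hz : z ∈ Subgroup.normalizer (D : Set H)) :
    π z ∈ Subgroup.normalizer (D.map π : Set H') :=
  Subgroup.le_normalizer_map (H := D) π ⟨z, hz, rfl⟩

theorem hasNormSub_of_hom {H' : Type w'} [Group H'] (π : H →* H') {E : Subgroup H'}
    (hE : E < D.map π) (hsq : ∀ d ∈ D.map π, d * d ∈ E)
    (hn : ∀ (f : ℕ) (z c : H), z ∈ Subgroup.normalizer (D : Set H) → c ∈ D → TGood V f (ψ z) →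
      TGood V f (ψ (c * z)) → nrm (2 ^ (f - 1)) (π z) (π c) ∈ E) : HasNormSub ψ D := by
  refine ⟨D ⊓ E.comap π, lt_of_le_of_ne inf_le_left fun h => hE.2 ?_, fun d hd => ⟨mul_mem hd hd, ?_⟩,
    fun f z c hz hc hg hg' => ⟨nrm_mem hz hc _, ?_⟩⟩
  · rintro _ ⟨d, hd, rfl⟩
    exact (show d ∈ D ⊓ E.comap π from h.symm ▸ hd).2
  · show π (d * d) ∈ E
    rw [map_mul]
    exact hsq _ ⟨d, hd, rfl⟩
  · show π _ ∈ E
    rw [map_nrm]
    exact hn f z c hz hc hg hg'

theorem HasNormSub.pull {V' : Type v'} [AddCommGroup V'] [Module K V'] {H' : Type w'} [Group H']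
    {ψ' : H' →* Module.End K V'} (π : H →* H')
    (hc : ∀ (f : ℕ) (z : H), TGood V f (ψ z) → TGood V' f (ψ' (π z)))
    (h : HasNormSub ψ' (D.map π)) : HasNormSub ψ D := by
  obtain ⟨E, hE, hsq, hn⟩ := h
  refine hasNormSub_of_hom π hE hsq fun f z c hz hcD hg hg' =>
    hn f _ _ (map_mem_normalizer π hz) ⟨c, hcD, rfl⟩ (hc f z hg) ?_
  rw [← map_mul]
  exact hc f _ hg'

theorem exists_index_two_ge [Finite H] (hD : IsPGroup 2 D) {S : Subgroup H} (hS : S < D) :
    ∃ D' < D, S ≤ D' ∧ ∀ d ∈ D, d * d ∈ D' := by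
  haveI := Fact.mk Nat.prime_two
  obtain ⟨k, hk⟩ := IsPGroup.iff_card.1 hD
  obtain ⟨m, hm⟩ := IsPGroup.iff_card.1 ((hD.to_le hS.le).of_equiv
    (Subgroup.subgroupOfEquivOfLe hS.le).symm)
  have hlt : Nat.card (S.subgroupOf D) < Nat.card D := by
    rw [Nat.card_congr (Subgroup.subgroupOfEquivOfLe hS.le).toEquiv]
    exact Set.Finite.card_lt_card (Set.toFinite _) (SetLike.coe_ssubset_coe.2 hS)
  rw [hm, hk] at hlt
  have hmk : m < k := (Nat.pow_lt_pow_iff_right (by norm_num)).1 hlt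
  obtain ⟨D₀, hD₀, hle⟩ := Sylow.exists_subgroup_card_pow_prime_le 2 (G := D) (n := m) (m := k - 1)
    (by rw [hk]; exact pow_dvd_pow 2 (by omega)) (S.subgroupOf D) hm (by omega)
  have hidx : D₀.index = 2 := by
    have h := D₀.card_mul_index
    rw [hD₀, hk, show (2 : ℕ) ^ k = 2 ^ (k - 1) * 2 by rw [← pow_succ]; congr 1; omega] at h
    exact Nat.eq_of_mul_eq_mul_left (Nat.two_pow_pos _) h
  refine ⟨D₀.map D.subtype, lt_of_le_of_ne (Subgroup.map_subtype_le _) fun h => ?_,
    fun s hs => ⟨⟨s, hS.le hs⟩, hle hs, rfl⟩,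
    fun d hd => ⟨⟨d, hd⟩ * ⟨d, hd⟩, Subgroup.mul_self_mem_of_index_two hidx _, rfl⟩⟩
  have h' : D₀ = ⊤ := Subgroup.map_injective D.subtype_injective
    (h.trans ((Subgroup.range_subtype D).symm.trans (MonoidHom.range_eq_map D.subtype)))
  rw [h', Subgroup.index_top] at hidx
  exact absurd hidx (by norm_num)

/-- A two-element fixing its commutator with `a` centralises `a` if the commutator is odd. -/
theorem eq_one_of_fixed_comm {d a k : H} {s : ℕ} (hd : d ^ 2 ^ s = 1) (hk : d * a * d⁻¹ = k * a)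
    (hc : Commute d k) (ho : Odd (orderOf k)) : k = 1 := by
  have h : ∀ n : ℕ, d ^ n * a * (d ^ n)⁻¹ = k ^ n * a := by
    intro n
    induction n with
    | zero => simp
    | succ n ih =>
      calc d ^ (n + 1) * a * (d ^ (n + 1))⁻¹ = d * (d ^ n * a * (d ^ n)⁻¹) * d⁻¹ := by
            rw [pow_succ']; group
        _ = (d * k ^ n * d⁻¹) * (d * a * d⁻¹) := by rw [ih]; group
        _ = k ^ (n + 1) * a := by
            rw [hk, (hc.pow_right n).eq, mul_inv_cancel_right, ← mul_assoc, ← pow_succ]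
  have h1 := h (2 ^ s)
  rw [hd, one_mul, inv_one, mul_one, right_eq_mul] at h1
  have h2 := Nat.eq_one_of_dvd_coprimes ((Nat.coprime_two_left.2 ho).pow_left s)
    (orderOf_dvd_of_pow_eq_one h1) dvd_rfl
  exact orderOf_eq_one_iff.1 h2

theorem odd_orderOf_mem [Finite H] {Q : Subgroup H} (hQ : Odd (Nat.card Q)) {k : H} (hk : k ∈ Q) :
    Odd (orderOf k) := by
  have h := hQ.of_dvd_nat (orderOf_dvd_natCard (⟨k, hk⟩ : Q))
  rwa [← Subgroup.orderOf_coe] at h

theorem tGood_orbit {f : ℕ} {X : Module.End K V} (hX : TGood V f X) (U : Submodule K V) (hU : U ≠ ⊥)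
    {j : ℕ} (hje : j ≤ f) (P : Module.End K V) (hP : ∀ v ∈ U, P v = v)
    (hPz : ∀ i < 2 ^ f, ¬ 2 ^ j ∣ i → ∀ v ∈ U, P ((X ^ i) v) = 0)
    (hXU : ∀ v ∈ U, (X ^ 2 ^ j) v ∈ U) : j < f ∧ TGood U (f - j) ((X ^ 2 ^ j).restrict hXU) := by
  have hz : ∀ v ∈ U, ∑ k ∈ Finset.range (2 ^ (f - j)), ((X ^ 2 ^ j) ^ k) v = 0 := by
    intro v hv
    have hmem : ∀ k : ℕ, ((X ^ 2 ^ j) ^ k) v ∈ U := by
      intro k
      induction k with
      | zero => exact hv
      | succ k ih => rw [pow_succ', Module.End.mul_apply]; exact hXU _ ih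
    have h1 := congrArg P (hX v)
    rw [map_sum, map_zero] at h1
    refine Eq.trans ?_ h1
    have he : 2 ^ f = 2 ^ j * 2 ^ (f - j) := by rw [← pow_add, Nat.add_sub_cancel' hje]
    rw [← Finset.sum_subset (s₁ := (Finset.range (2 ^ (f - j))).image (2 ^ j * ·))
      (s₂ := Finset.range (2 ^ f)), Finset.sum_image]
    · refine Finset.sum_congr rfl fun k _ => ?_
      rw [pow_mul, hP _ (hmem k)]
    · intro a _ b _ hab
      exact Nat.eq_of_mul_eq_mul_left (pow_pos two_pos j) hab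
    · intro i hi
      obtain ⟨k, hk, rfl⟩ := Finset.mem_image.1 hi
      rw [Finset.mem_range] at hk ⊢
      rw [he]
      exact Nat.mul_lt_mul_of_pos_left hk (pow_pos two_pos j)
    · intro i hi hni
      refine hPz i (Finset.mem_range.1 hi) (fun ⟨k, hk⟩ => hni ?_) v hv
      refine Finset.mem_image.2 ⟨k, Finset.mem_range.2 ?_, hk.symm⟩
      rw [Finset.mem_range, hk, he] at hi
      exact Nat.lt_of_mul_lt_mul_left hi
  obtain ⟨u, hu, hu0⟩ := Submodule.exists_mem_ne_zero_of_ne_bot hU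
  have hlt : j < f := by
    refine lt_of_le_of_ne hje fun h => hu0 ?_
    subst h
    simpa using hz u hu
  refine ⟨hlt, fun v => Subtype.ext ?_⟩
  rw [AddSubmonoidClass.coe_finsetSum, Submodule.coe_zero, ← hz v v.2]
  exact Finset.sum_congr rfl fun i _ => restrict_pow_apply hXU i v

/-- A maximal normal subgroup of `Q` with scalar commutators contains its centraliser in `Q`. -/
theorem exists_ext_subgroup_in [Finite H] (Q : Subgroup H) [hQn : Q.Normal]
    (hsol : Group.IsSolvable Q) (hψ : Function.Injective ψ)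
    (hsc : ∀ A : Subgroup H, A.Normal → A ≤ Q → (∀ a ∈ A, ∀ b ∈ A, a * b = b * a) →
      ∀ a ∈ A, ∃ r : K, ψ a = r • 1) :
    ∃ R : Subgroup H, IsExt ψ R ∧ R ≤ Q ∧
      ∀ h ∈ Q, (∀ a ∈ R, h * a = a * h) → h ∈ scalSub ψ := by
  classical
  obtain ⟨R, hR⟩ := exists_maximal_of_wellFoundedGT
    (fun R : Subgroup H => (R.Normal ∧ R ≤ Q) ∧ ∀ a ∈ R, ∀ b ∈ R, ⁅a, b⁆ ∈ scalSub ψ)
    ⟨⊥, ⟨inferInstance, bot_le⟩, fun a ha b _ => by
      rw [Subgroup.mem_bot.1 ha, commutatorElement_one_left]; exact one_mem _⟩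
  obtain ⟨⟨hRn, hRQ⟩, hRc⟩ := hR.prop
  haveI := hRn
  let C : Subgroup H := Subgroup.centralizer (R : Set H) ⊓ Q
  haveI hCn : C.Normal := inferInstance
  have hmemC : ∀ {h : H}, h ∈ C ↔ (∀ a ∈ R, a * h = h * a) ∧ h ∈ Q := fun {h} =>
    and_congr Subgroup.mem_centralizer_iff Iff.rfl
  have hCR : ∀ a ∈ C ⊓ R, a ∈ scalSub ψ :=
    hsc (C ⊓ R) inferInstance (inf_le_right.trans hRQ) fun a ha b hb => ((hmemC.1 ha.1).1 b hb.2).symm
  let D : ℕ → Subgroup H := fun k => k.rec C fun _ P => ⁅P, P⁆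
  have hDn : ∀ k, (D k).Normal := fun k => by
    induction k with
    | zero => exact hCn
    | succ k ih => exact Subgroup.commutator_normal _ _
  have hDC : ∀ k, D k ≤ C := fun k => by
    induction k with
    | zero => exact le_rfl
    | succ k ih =>
      haveI := hDn k
      exact (Subgroup.commutator_le_left _ _).trans ih
  have hDle : ∀ k, D k ≤ (derivedSeries Q k).map Q.subtype := fun k => by
    induction k with
    | zero =>
      rw [derivedSeries_zero, ← MonoidHom.range_eq_map, Subgroup.range_subtype]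
      exact inf_le_right
    | succ k ih =>
      rw [derivedSeries_succ, Subgroup.map_commutator]
      exact Subgroup.commutator_mono ih ih
  obtain ⟨n, hn⟩ := hsol.solvable
  have hsucc : ∀ k, D (k + 1) ≤ scalSub ψ → D k ≤ scalSub ψ := by
    intro k hk
    haveI := hDn k
    have hle : R ⊔ D k ≤ R := by
      refine hR.2 (y := R ⊔ D k) ⟨⟨@Subgroup.sup_normal H _ R (D k) hRn (hDn k),
        sup_le hRQ ((hDC k).trans inf_le_right)⟩, ?_⟩ le_sup_left
      intro a ha b hb
      rw [← SetLike.mem_coe, @Subgroup.mul_normal H _ R (D k) (hDn k), Set.mem_mul] at ha hb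
      obtain ⟨a, ha, d, hd, rfl⟩ := ha
      obtain ⟨b, hb, d', hd', rfl⟩ := hb
      have hc : ∀ p ∈ R, ∀ q ∈ D k, Commute p q := fun p hp q hq => (hmemC.1 (hDC k hq)).1 p hp
      have hdd : ⁅d, d'⁆ ∈ scalSub ψ := hk (Subgroup.commutator_mem_commutator hd hd')
      have e1 : Commute a d := hc a ha d hd
      have e2 : Commute a d' := hc a ha d' hd'
      have e3 : Commute b d := hc b hb d hd
      have e4 : Commute b d' := hc b hb d' hd'
      have key : ⁅a * d, b * d'⁆ = ⁅a, b⁆ * ⁅d, d'⁆ := by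
        rw [commutatorElement_def, commutatorElement_def, commutatorElement_def]
        calc a * d * (b * d') * (a * d)⁻¹ * (b * d')⁻¹
            = a * (d * b) * (d' * d⁻¹) * a⁻¹ * d'⁻¹ * b⁻¹ := by group
          _ = a * b * (d * d' * d⁻¹ * (a⁻¹ * d'⁻¹)) * b⁻¹ := by rw [← e3.eq]; group
          _ = a * b * ((d * d' * d⁻¹ * d'⁻¹) * a⁻¹) * b⁻¹ := by
              rw [e2.inv_inv.eq]; group
          _ = a * b * (a⁻¹ * (d * d' * d⁻¹ * d'⁻¹)) * b⁻¹ := by
              rw [((e1.mul_right e2).mul_right e1.inv_right |>.mul_right e2.inv_right).inv_left.symm.eq]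
          _ = a * b * a⁻¹ * ((d * d' * d⁻¹ * d'⁻¹) * b⁻¹) := by group
          _ = a * b * a⁻¹ * (b⁻¹ * (d * d' * d⁻¹ * d'⁻¹)) := by
              rw [((e3.mul_right e4).mul_right e3.inv_right |>.mul_right e4.inv_right).inv_left.symm.eq]
          _ = _ := by group
      rw [key]
      exact mul_mem (hRc a ha b hb) hdd
    intro a ha
    exact hCR a ⟨hDC k ha, hle (Subgroup.mem_sup_right ha)⟩
  have hCs : C ≤ scalSub ψ := by
    have : ∀ k, D k ≤ scalSub ψ → D 0 ≤ scalSub ψ := fun k => by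
      induction k with
      | zero => exact id
      | succ k ih => exact fun h => ih (hsucc k h)
    refine this n ((hDle n).trans ?_)
    rw [hn, Subgroup.map_bot]
    exact bot_le
  exact ⟨R, ⟨hRn, hRc, fun a ha hab => hCs (hmemC.2 ⟨fun b hb => hψ (by
    rw [map_mul, map_mul, hab b hb]), hRQ ha⟩)⟩, hRQ,
    fun h hhQ hh => hCs (hmemC.2 ⟨fun a ha => (hh a ha).symm, hhQ⟩)⟩

theorem odd_card_map [Finite H] {H' : Type w'} [Group H'] (π : H →* H') {Q : Subgroup H}
    (hQ : Odd (Nat.card Q)) : Odd (Nat.card (Q.map π)) :=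
  hQ.of_dvd_nat (Subgroup.card_dvd_of_surjective (π.subgroupMap Q) (π.subgroupMap_surjective Q))

theorem isSolvable_map {H' : Type w'} [Group H'] (π : H →* H') {Q : Subgroup H}
    (hQ : Group.IsSolvable Q) : Group.IsSolvable (Q.map π) :=
  haveI := hQ
  Group.isSolvable_of_surjective (π.subgroupMap_surjective Q)

variable [CharP K 2]

/-- The case of scalar abelian normal subgroups inside `Q`. -/
theorem key_prim [FiniteDimensional K V] [Nontrivial V] [Finite H] (hψ : Function.Injective ψ)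
    (Q : Subgroup H) [hQn : Q.Normal] (hQo : Odd (Nat.card Q)) (hQs : Group.IsSolvable Q)
    (hsc : ∀ A : Subgroup H, A.Normal → A ≤ Q → (∀ a ∈ A, ∀ b ∈ A, a * b = b * a) →
      ∀ a ∈ A, ∃ r : K, ψ a = r • 1)
    (hD : IsPGroup 2 D) (hnc : ∃ d ∈ D, ∃ a ∈ Q, d * a ≠ a * d) : HasNormSub ψ D := by
  obtain ⟨R, hE, hRQ, hC⟩ := exists_ext_subgroup_in Q hQs hψ hsc
  haveI := hE.normal
  letI := quoComm hE
  obtain ⟨d, hd, a, ha, hne⟩ := hnc
  obtain ⟨s, hs⟩ := hD ⟨d, hd⟩
  have hs' : d ^ 2 ^ s = 1 := congrArg Subtype.val hs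
  have hbot : D.map hE.act ≠ ⊥ := by
    intro hbot
    have hact : hE.act d = 1 := Subgroup.mem_bot.1 (hbot ▸ Subgroup.mem_map_of_mem hE.act hd)
    have hcR : ∀ r ∈ R, d * r = r * d := by
      intro r hr
      have h1 : ((⟨d * r * d⁻¹, hE.normal.conj_mem _ hr d⟩ : R) : Quo ψ R) =
          ((⟨r, hr⟩ : R) : Quo ψ R) := by
        rw [← hE.act_mk d ⟨r, hr⟩, hact, MulAut.one_apply]
      rw [QuotientGroup.eq_iff_div_mem, mem_scal] at h1
      have h2 : d * r * d⁻¹ * r⁻¹ ∈ scalSub ψ := by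
        obtain ⟨t, ht⟩ := h1
        exact ⟨t, by rw [← ht, Subgroup.coe_div, div_eq_mul_inv]⟩
      have h3 : d * r * d⁻¹ * r⁻¹ ∈ Q :=
        mul_mem (hQn.conj_mem r (hRQ hr) d) (inv_mem (hRQ hr))
      have h4 := eq_one_of_fixed_comm hs' (a := r) (k := d * r * d⁻¹ * r⁻¹)
        (by rw [inv_mul_cancel_right]) (scalSub_comm hψ h2 d) (odd_orderOf_mem hQo h3)
      rw [mul_inv_eq_one, mul_inv_eq_iff_eq_mul] at h4
      exact h4
    have hk : d * a * d⁻¹ * a⁻¹ ∈ Q := mul_mem (hQn.conj_mem a ha d) (inv_mem ha)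
    have hks : d * a * d⁻¹ * a⁻¹ ∈ scalSub ψ := hC _ hk fun r hr => by
      have h1 : d⁻¹ * r = r * d⁻¹ := ((show Commute d r from hcR r hr).inv_left).eq
      have h2 := hcR _ (hE.normal.conj_mem r hr a⁻¹)
      rw [inv_inv] at h2
      calc d * a * d⁻¹ * a⁻¹ * r = d * a * d⁻¹ * (a⁻¹ * r * a) * a⁻¹ := by group
        _ = d * a * (d⁻¹ * (a⁻¹ * r * a * d)) * d⁻¹ * a⁻¹ := by group
        _ = d * a * (a⁻¹ * r * a) * d⁻¹ * a⁻¹ := by rw [← h2, inv_mul_cancel_left]
        _ = (d * r) * a * d⁻¹ * a⁻¹ := by group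
        _ = r * (d * a * d⁻¹ * a⁻¹) := by rw [hcR r hr]; group
    have h4 := eq_one_of_fixed_comm hs' (a := a) (k := d * a * d⁻¹ * a⁻¹)
      (by rw [inv_mul_cancel_right]) (scalSub_comm hψ hks d) (odd_orderOf_mem hQo hk)
    rw [mul_inv_eq_one, mul_inv_eq_iff_eq_mul] at h4
    exact hne h4
  obtain ⟨E, hEl, hsq, hn⟩ := leaf (form_qform hE) (D := D.map hE.act) (hD.map hE.act)
    (by rintro _ ⟨x, -, rfl⟩; exact act_isom hE x) hbot
  refine hasNormSub_of_hom hE.act hEl hsq fun f z c hz hc hg hg' =>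
    hn f _ _ (map_mem_normalizer hE.act hz) ⟨c, hc, rfl⟩ (good_of_tGood hE hψ hg) ?_
  rw [← map_mul]
  exact good_of_tGood hE hψ hg'

end Transfer

set_option maxHeartbeats 2000000 in
/-- The recursion. -/
theorem key [CharP K 2] [IsAlgClosed K] : ∀ (b : ℕ) {V : Type v} [AddCommGroup V] [Module K V]
    [FiniteDimensional K V], finrank K V ≤ b → ∀ {H : Type w} [Group H] [Finite H]
    (ψ : H →* Module.End K V), Function.Injective ψ → ∀ (Q : Subgroup H), Q.Normal →
    Odd (Nat.card Q) → Group.IsSolvable Q → ∀ (D : Subgroup H), IsPGroup 2 D →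
    (∃ d ∈ D, ∃ a ∈ Q, d * a ≠ a * d) → HasNormSub ψ D := by
  haveI := Fact.mk Nat.prime_two
  intro b
  induction b with
  | zero =>
    intro V _ _ _ hd H _ _ ψ hψ Q _ _ _ D _ ⟨d, _, a, _, hne⟩
    haveI : Subsingleton V := Module.finrank_zero_iff.1 (Nat.le_zero.1 hd)
    exact absurd (hψ (LinearMap.ext fun v => Subsingleton.elim _ _)) hne
  | succ b ih =>
    intro V _ _ _ hd H _ _ ψ hψ Q hQn hQo hQs D hD hnc
    haveI := hQn
    rcases subsingleton_or_nontrivial V with hV | hV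
    · obtain ⟨d, _, a, _, hne⟩ := hnc
      exact absurd (hψ (LinearMap.ext fun v => Subsingleton.elim _ _)) hne
    -- representations that need not be faithful
    have ih' : ∀ {W : Type v} [AddCommGroup W] [Module K W] [FiniteDimensional K W],
        finrank K W ≤ b → ∀ {H' : Type w} [Group H'] [Finite H'] (φ : H' →* Module.End K W)
        (Q' : Subgroup H'), Q'.Normal → Odd (Nat.card Q') → Group.IsSolvable Q' →
        ∀ (D' : Subgroup H'), IsPGroup 2 D' → (∃ d ∈ D', ∃ a ∈ Q', φ (d * a) ≠ φ (a * d)) →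
        HasNormSub φ D' := by
      intro W _ _ _ hW H' _ _ φ Q' hQ'n hQ'o hQ's D' hD' ⟨d, hd', a, ha, hne⟩
      haveI := hQ'n
      haveI := hQ's
      have hodd : Odd (Nat.card (Q'.map (QuotientGroup.mk' φ.ker))) :=
        odd_card_map (QuotientGroup.mk' φ.ker) hQ'o
      have hsolv : Group.IsSolvable (Q'.map (QuotientGroup.mk' φ.ker)) :=
        isSolvable_map (QuotientGroup.mk' φ.ker) hQ's
      have hrec : HasNormSub (kerLift' φ) (D'.map (QuotientGroup.mk' φ.ker)) := by
        refine ih (V := W) hW (H := H' ⧸ φ.ker) (kerLift' φ) (kerLift'_injective φ)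
          (Q'.map (QuotientGroup.mk' φ.ker)) (hQ'n.map _ (QuotientGroup.mk'_surjective _))
          hodd hsolv
          (D'.map (QuotientGroup.mk' φ.ker)) (hD'.map _)
          ⟨QuotientGroup.mk' φ.ker d, Subgroup.mem_map_of_mem _ hd', QuotientGroup.mk' φ.ker a,
            Subgroup.mem_map_of_mem _ ha, fun h => hne ?_⟩
        rw [← map_mul, ← map_mul] at h
        exact congrArg (kerLift' φ) h
      exact HasNormSub.pull (ψ := φ) (ψ' := kerLift' φ) (QuotientGroup.mk' φ.ker) (fun f z h => h) hrec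
    obtain ⟨d₀, hd₀, a₀, ha₀, hne₀⟩ := hnc
    by_cases hirr : ∀ U : Submodule K V, (∀ g, ∀ v ∈ U, ψ g v ∈ U) → U = ⊥ ∨ U = ⊤
    swap
    · push Not at hirr
      obtain ⟨U, hU, hUb, hUt⟩ := hirr
      have hlt1 : finrank K U ≤ b := by
        have := Submodule.finrank_lt hUt
        omega
      have hlt2 : finrank K (V ⧸ U) ≤ b := by
        have h1 := U.finrank_quotient_add_finrank
        have h2 : 0 < finrank K U := Nat.pos_of_ne_zero fun h => hUb (Submodule.finrank_eq_zero.1 h)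
        omega
      by_cases h1 : subRep ψ U hU (d₀ * a₀) = subRep ψ U hU (a₀ * d₀)
      swap
      · obtain ⟨E, hE, hsq, hn⟩ := ih' hlt1 (subRep ψ U hU) Q hQn hQo hQs D hD ⟨d₀, hd₀, a₀, ha₀, h1⟩
        exact ⟨E, hE, hsq, fun f z c hz hc hg hg' => hn f z c hz hc
          (tGood_closed.restrict hg U (hU z)) (tGood_closed.restrict hg' U (hU _))⟩
      by_cases h2 : quotRep ψ U hU (d₀ * a₀) = quotRep ψ U hU (a₀ * d₀)
      swap
      · obtain ⟨E, hE, hsq, hn⟩ := ih' hlt2 (quotRep ψ U hU) Q hQn hQo hQs D hD ⟨d₀, hd₀, a₀, ha₀, h2⟩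
        exact ⟨E, hE, hsq, fun f z c hz hc hg hg' => hn f z c hz hc
          (tGood_closed.quotient hg U (hU z)) (tGood_closed.quotient hg' U (hU _))⟩
      exfalso
      set k := d₀ * a₀ * d₀⁻¹ * a₀⁻¹ with hk
      have hkQ : k ∈ Q := mul_mem (hQn.conj_mem a₀ ha₀ d₀) (inv_mem ha₀)
      have hkey : ∀ {W : Type v} [AddCommGroup W] [Module K W] (φ : H →* Module.End K W),
          φ (d₀ * a₀) = φ (a₀ * d₀) → φ k = 1 := by
        intro W _ _ φ h
        rw [hk, show d₀ * a₀ * d₀⁻¹ * a₀⁻¹ = d₀ * a₀ * (a₀ * d₀)⁻¹ by group, map_mul, h, ← map_mul,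
          mul_inv_cancel, map_one]
      have hsq : (ψ k - 1) ^ 2 = 0 := LinearMap.ext fun v => by
        have h3 : ψ k v - v ∈ U := by
          have := LinearMap.congr_fun (hkey _ h2) (Submodule.Quotient.mk v)
          exact (Submodule.Quotient.eq U).1 this
        have h4 : ψ k (ψ k v - v) = ψ k v - v :=
          congrArg Subtype.val (LinearMap.congr_fun (hkey _ h1) ⟨_, h3⟩)
        rw [pow_two, Module.End.mul_apply, LinearMap.sub_apply, LinearMap.sub_apply,
          Module.End.one_apply, Module.End.one_apply, h4, sub_self, LinearMap.zero_apply]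
      haveI : CharP (Module.End K V) 2 :=
        charP_of_injective_algebraMap (FaithfulSMul.algebraMap_injective K _) 2
      rw [sub_pow_char_of_commute 2 (Commute.one_right _), one_pow, sub_eq_zero, ← map_pow] at hsq
      have hk2 : k ^ 2 = 1 := hψ (hsq.trans (map_one ψ).symm)
      have hk1 : k = 1 := by
        rcases (Nat.dvd_prime Nat.prime_two).1 (orderOf_dvd_of_pow_eq_one hk2) with h | h
        · exact orderOf_eq_one_iff.1 h
        · have := odd_orderOf_mem hQo hkQ
          rw [h] at this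
          exact absurd this (by decide)
      rw [hk, mul_inv_eq_one, mul_inv_eq_iff_eq_mul] at hk1
      exact hne₀ hk1
    by_cases hsc : ∀ A : Subgroup H, A.Normal → A ≤ Q → (∀ a ∈ A, ∀ b ∈ A, a * b = b * a) →
        ∀ a ∈ A, ∃ r : K, ψ a = r • 1
    · exact key_prim hψ Q hQo hQs hsc hD ⟨d₀, hd₀, a₀, ha₀, hne₀⟩
    push Not at hsc
    obtain ⟨A, hAn, hAQ, hab, aₛ, haₛ, haₛs⟩ := hsc
    haveI := hAn
    classical
    cases nonempty_fintype A
    have hAK : (Fintype.card A : K) ≠ 0 := by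
      rw [← Nat.card_eq_fintype_card]
      exact card_ne_zero_of_commutative (c := 2) hψ hirr hab
    let Vs : (A →* K) → Submodule K V := fun μ =>
      { carrier := {v | ∀ a : A, ψ a v = μ a • v}
        add_mem' := fun {v w} hv hw a => by rw [map_add, hv a, hw a, smul_add]
        zero_mem' := fun a => by rw [map_zero, smul_zero]
        smul_mem' := fun r v hv a => by rw [map_smul, hv a, smul_comm] }
    let actc : H → (A →* K) → (A →* K) := fun g μ =>
      μ.comp (MulAut.conjNormal g⁻¹ : MulAut A).toMonoidHom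
    have hactc : ∀ g μ (a : A), actc g μ a = μ (MulAut.conjNormal g⁻¹ a) := fun g μ a => rfl
    have hmap : ∀ g μ, ∀ v ∈ Vs μ, ψ g v ∈ Vs (actc g μ) := by
      intro g μ v hv a
      rw [hactc, ← map_smul, ← hv, ← Module.End.mul_apply, ← map_mul, ← Module.End.mul_apply,
        ← map_mul, MulAut.conjNormal_apply]
      congr 2
      group
    have hactmul : ∀ g g' μ, actc (g * g') μ = actc g (actc g' μ) := fun g g' μ =>
      MonoidHom.ext fun a => by
        rw [hactc, hactc, hactc, mul_inv_rev, map_mul, MulAut.mul_apply]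
    have hactone : ∀ μ, actc 1 μ = μ := fun μ => MonoidHom.ext fun a => by
      rw [hactc, inv_one, map_one, MulAut.one_apply]
    let e0 : (A →* K) → Module.End K V := fun μ =>
      (Fintype.card A : K)⁻¹ • ∑ a : A, μ a⁻¹ • ψ a
    have he0 : ∀ μ ν, ∀ v ∈ Vs ν, e0 μ v = if μ = ν then v else 0 := by
      intro μ ν v hv
      let χ : A →* K :=
        { toFun := fun a => μ a⁻¹ * ν a
          map_one' := by simp
          map_mul' := fun p q => by
            rw [mul_inv_rev, map_mul, map_mul]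
            ring }
      have h1 : e0 μ v = ((Fintype.card A : K)⁻¹ * ∑ a, χ a) • v := by
        simp only [e0, LinearMap.smul_apply, LinearMap.sum_apply]
        rw [mul_smul, Finset.sum_smul]
        congr 1
        refine Finset.sum_congr rfl fun a _ => ?_
        rw [hv a, smul_smul]
        rfl
      rw [h1]
      split_ifs with h
      · subst h
        have : ∀ a, χ a = 1 := fun a => by
          show μ a⁻¹ * μ a = 1
          rw [← map_mul, inv_mul_cancel, map_one]
        simp [this, inv_mul_cancel₀ hAK]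
      · rw [sum_hom_units_eq_zero χ, mul_zero, zero_smul]
        intro hh
        refine h (MonoidHom.ext fun a => ?_)
        have h2 : μ a⁻¹ * ν a = 1 := DFunLike.congr_fun hh a
        have h3 : μ a * μ a⁻¹ = 1 := by rw [← map_mul, mul_inv_cancel, map_one]
        calc μ a = μ a * (μ a⁻¹ * ν a) := by rw [h2, mul_one]
          _ = ν a := by rw [← mul_assoc, h3, one_mul]
    obtain ⟨μ₀, hμ₀⟩ : ∃ μ, Vs μ ≠ ⊥ := by
      obtain ⟨S, hS⟩ := exists_minimal_of_wellFoundedLT
        (fun W : Submodule K V => W ≠ ⊥ ∧ ∀ a : A, ∀ v ∈ W, ψ a v ∈ W)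
        ⟨⊤, top_ne_bot, fun _ _ _ => Submodule.mem_top⟩
      obtain ⟨hSne, hSinv⟩ := hS.prop
      haveI : Nontrivial S := Submodule.nontrivial_iff_ne_bot.2 hSne
      have hSirr : ∀ W : Submodule K S, (∀ a : A, ∀ w ∈ W, subRep (ψ.comp A.subtype) S hSinv a w ∈ W) →
          W = ⊥ ∨ W = ⊤ := by
        intro W hW
        by_cases hWb : W = ⊥
        · exact Or.inl hWb
        right
        have h1 := hS.2 (y := W.map S.subtype) ⟨fun h => hWb (Submodule.map_injective_of_injective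
            S.injective_subtype (h.trans (Submodule.map_bot _).symm)), by
          rintro a _ ⟨w, hw, rfl⟩
          exact ⟨_, hW a w hw, rfl⟩⟩ (Submodule.map_subtype_le _ _)
        exact Submodule.map_injective_of_injective S.injective_subtype
          ((le_antisymm (Submodule.map_subtype_le _ _) h1).trans (Submodule.map_subtype_top S).symm)
      have hsc' : ∀ a : A, ∃ r : K, subRep (ψ.comp A.subtype) S hSinv a = r • 1 := fun a =>
        CfsgLib.HallHigman.exists_eq_smul_one_of_commute _ hSirr _ fun a' => by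
          show subRep (ψ.comp A.subtype) S hSinv a * subRep (ψ.comp A.subtype) S hSinv a' = _
          rw [← map_mul, ← map_mul]
          exact congrArg _ (Subtype.ext (hab a a.2 a' a'.2))
      choose μ hμ using hsc'
      have hinj : ∀ r r' : K, r • (1 : Module.End K S) = r' • 1 → r = r' := fun r r' h =>
        smul_left_injective K (one_ne_zero (α := Module.End K S)) h
      refine ⟨⟨⟨μ, hinj _ _ (by rw [← hμ, map_one, one_smul])⟩,
        fun p q => hinj _ _ (by rw [← hμ, map_mul, hμ, hμ, smul_mul_smul_comm, one_mul])⟩, ?_⟩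
      obtain ⟨v, hv, hv0⟩ := Submodule.exists_mem_ne_zero_of_ne_bot hSne
      refine fun h => hv0 ((Submodule.mem_bot K).1 (h ▸ ?_))
      intro a
      exact congrArg Subtype.val (LinearMap.congr_fun (hμ a) ⟨v, hv⟩)
    have hsum : ⨆ μ, Vs μ = ⊤ := by
      refine (hirr _ fun g => ?_).resolve_left fun h => hμ₀ (le_bot_iff.1 (h ▸ le_iSup Vs μ₀))
      intro v hv
      have : (⨆ μ, Vs μ) ≤ (⨆ μ, Vs μ).comap (ψ g) := iSup_le fun μ w hw =>
        Submodule.mem_iSup_of_mem (actc g μ) (hmap g μ w hw)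
      exact this hv
    have hproper : ∀ μ, finrank K (Vs μ) ≤ b := fun μ => by
      have h : Vs μ ≠ ⊤ := fun h => haₛs (μ ⟨aₛ, haₛ⟩) (LinearMap.ext fun v => by
        exact (show v ∈ Vs μ from h ▸ Submodule.mem_top) ⟨aₛ, haₛ⟩)
      have := Submodule.finrank_lt h
      omega
    let St : (A →* K) → Subgroup H := fun μ =>
      { carrier := {g | actc g μ = μ}
        one_mem' := hactone μ
        mul_mem' := fun {g g'} (hg : actc g μ = μ) (hg' : actc g' μ = μ) => by
          show actc (g * g') μ = μ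
          rw [hactmul, hg', hg]
        inv_mem' := fun {g} (hg : actc g μ = μ) => by
          show actc g⁻¹ μ = μ
          conv_lhs => rw [← hg]
          rw [← hactmul, inv_mul_cancel, hactone] }
    let B : Subgroup H :=
      { carrier := {g | ∀ μ, Vs μ ≠ ⊥ → g ∈ St μ}
        one_mem' := fun μ _ => one_mem _
        mul_mem' := fun {g g'} hg hg' μ hμ => mul_mem (hg μ hμ) (hg' μ hμ)
        inv_mem' := fun {g} hg μ hμ => inv_mem (hg μ hμ) }
    have hne_act : ∀ g μ, Vs μ ≠ ⊥ → Vs (actc g μ) ≠ ⊥ := by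
      intro g μ hμ h
      obtain ⟨v, hv, hv0⟩ := Submodule.exists_mem_ne_zero_of_ne_bot hμ
      have h1 := hmap g μ v hv
      rw [h, Submodule.mem_bot] at h1
      refine hv0 ?_
      have h2 := congrArg (ψ g⁻¹) h1
      rwa [map_zero, ← Module.End.mul_apply, ← map_mul, inv_mul_cancel, map_one,
        Module.End.one_apply] at h2
    haveI hBn : B.Normal := ⟨fun y hy g μ hμ => by
      show actc (g * y * g⁻¹) μ = μ
      rw [mul_assoc, hactmul, hactmul,
        show actc y (actc g⁻¹ μ) = actc g⁻¹ μ from hy _ (hne_act _ _ hμ), ← hactmul, mul_inv_cancel,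
        hactone]⟩
    -- the orbit of an element on one character
    have horb : ∀ μ, Vs μ ≠ ⊥ → ∀ (z : H) (f : ℕ), TGood V f (ψ z) →
        ∃ (j : ℕ) (h : ∀ v ∈ Vs μ, (ψ z ^ 2 ^ j) v ∈ Vs μ), z ^ 2 ^ j ∈ St μ ∧ j < f ∧
          TGood (Vs μ) (f - j) ((ψ z ^ 2 ^ j).restrict h) ∧
          ∀ k, z ^ 2 ^ k ∈ St μ → j ≤ k := by
      intro μ hμ x f hx
      have hxe : x ^ 2 ^ f = 1 := hψ (by rw [map_pow, tGood_closed.pow_eq hx, map_one])
      have hexj : ∃ j, x ^ 2 ^ j ∈ St μ := ⟨f, by rw [hxe]; exact one_mem _⟩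
      set j := Nat.find hexj with hj
      have hje : j ≤ f := Nat.find_le (by rw [hxe]; exact one_mem _)
      have hmem : ∀ v ∈ Vs μ, (ψ x ^ 2 ^ j) v ∈ Vs μ := fun v hv => by
        rw [← map_pow]
        have := hmap (x ^ 2 ^ j) μ v hv
        rwa [show actc (x ^ 2 ^ j) μ = μ from Nat.find_spec hexj] at this
      obtain ⟨hlt, hg⟩ := tGood_orbit hx (Vs μ) hμ hje (e0 μ) (fun v hv => by
        rw [he0 μ μ v hv, if_pos rfl]) (fun i _ hdvd v hv => by
        rw [← map_pow, he0 μ _ _ (hmap (x ^ i) μ v hv), if_neg]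
        intro h
        have hi : x ^ i ∈ St μ := h.symm
        obtain ⟨l, hl, hgcd⟩ := (Nat.dvd_prime_pow Nat.prime_two).1 (Nat.gcd_dvd_right i (2 ^ f))
        have hmeml : x ^ 2 ^ l ∈ St μ := by
          rw [← hgcd, ← zpow_natCast, Nat.gcd_eq_gcd_ab, zpow_add, zpow_mul, zpow_mul, zpow_natCast,
            zpow_natCast, hxe, one_zpow, mul_one]
          exact zpow_mem hi _
        refine hdvd ((pow_dvd_pow 2 (Nat.find_le hmeml : j ≤ l)).trans ?_)
        rw [← hgcd]
        exact Nat.gcd_dvd_left _ _) hmem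
      exact ⟨j, hmem, Nat.find_spec hexj, hlt, hg, fun k hk => Nat.find_le hk⟩
    have htop : ∀ (z : H) (f : ℕ), TGood V f (ψ z) → z ^ 2 ^ (f - 1) ∈ B := by
      intro z f hz μ hμ
      obtain ⟨j, -, hst, hjf, -, -⟩ := horb μ hμ z f hz
      have := pow_mem hst (2 ^ (f - 1 - j))
      rwa [← pow_mul, ← pow_add, show j + (f - 1 - j) = f - 1 by omega] at this
    by_cases hDB : D ≤ B
    swap
    · obtain ⟨E, hE, hSE, hsq⟩ := exists_index_two_ge hD (S := D ⊓ B)
        (lt_of_le_of_ne inf_le_left fun h => hDB (inf_eq_left.1 h))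
      exact ⟨E, hE, hsq, fun f z c hz hc hg hg' => hSE ⟨nrm_mem hz hc _,
        B.mul_mem (htop _ f hg') (B.inv_mem (htop z f hg))⟩⟩
    obtain ⟨μ, hμ, d, hdD, a, haQ, haB, hneμ⟩ : ∃ μ, Vs μ ≠ ⊥ ∧ ∃ d ∈ D, ∃ a ∈ Q, a ∈ B ∧
        ∃ v ∈ Vs μ, ψ (d * a) v ≠ ψ (a * d) v := by
      by_contra hno
      push Not at hno
      have hcomm : ∀ d ∈ D, ∀ a ∈ Q, a ∈ B → d * a = a * d := by
        intro d hd a ha haB
        refine hψ (LinearMap.ext fun v => ?_)
        have hle : (⊤ : Submodule K V) ≤ LinearMap.ker (ψ (d * a) - ψ (a * d)) := by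
          rw [← hsum]
          refine iSup_le fun μ w hw => ?_
          rw [LinearMap.mem_ker, LinearMap.sub_apply, sub_eq_zero]
          by_cases hμ : Vs μ = ⊥
          · rw [hμ, Submodule.mem_bot] at hw
            rw [hw, map_zero, map_zero]
          · exact hno μ hμ d hd a ha haB w hw
        have := hle (Submodule.mem_top : v ∈ (⊤ : Submodule K V))
        rwa [LinearMap.mem_ker, LinearMap.sub_apply, sub_eq_zero] at this
      obtain ⟨s, hs⟩ := hD ⟨d₀, hd₀⟩
      set k := d₀ * a₀ * d₀⁻¹ * a₀⁻¹ with hk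
      have hkQ : k ∈ Q := mul_mem (hQn.conj_mem a₀ ha₀ d₀) (inv_mem ha₀)
      have hkB : k ∈ B := by
        rw [hk, show d₀ * a₀ * d₀⁻¹ * a₀⁻¹ = d₀ * (a₀ * d₀⁻¹ * a₀⁻¹) by group]
        exact mul_mem (hDB hd₀) (hBn.conj_mem _ (inv_mem (hDB hd₀)) a₀)
      have hk1 := eq_one_of_fixed_comm (congrArg Subtype.val hs) (a := a₀) (k := k)
        (by rw [hk, inv_mul_cancel_right]) (hcomm _ hd₀ k hkQ hkB) (odd_orderOf_mem hQo hkQ)
      rw [hk, mul_inv_eq_one, mul_inv_eq_iff_eq_mul] at hk1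
      exact hne₀ hk1
    obtain ⟨v, hv, hneμ⟩ := hneμ
    have hDS : D ≤ St μ := fun g hg => hDB hg μ hμ
    have hSt : ∀ g : St μ, ∀ v ∈ Vs μ, (ψ.comp (St μ).subtype) g v ∈ Vs μ := fun g v hv => by
      have := hmap (g : H) μ v hv
      rwa [show actc (g : H) μ = μ from g.2] at this
    set Φ := subRep (ψ.comp (St μ).subtype) (Vs μ) hSt with hΦ
    have hQo' : Odd (Nat.card (Q.subgroupOf (St μ))) := by
      refine hQo.of_dvd_nat ?_
      rw [← Subgroup.inf_subgroupOf_right, Nat.card_congr (Subgroup.subgroupOfEquivOfLe inf_le_right).toEquiv]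
      exact Subgroup.card_dvd_of_le inf_le_left
    have hQs' : Group.IsSolvable (Q.subgroupOf (St μ)) := by
      haveI := hQs
      exact Group.isSolvable_of_isSolvable_injective (f :=
        (((St μ).subtype.comp (Q.subgroupOf (St μ)).subtype).codRestrict Q fun x => x.2))
        fun x y h => Subtype.ext (Subtype.ext (congrArg (fun t : Q => (t : H)) h :))
    obtain ⟨E, hE, hsq, hn⟩ := ih' (hproper μ) Φ (Q.subgroupOf (St μ)) inferInstance hQo' hQs'
      (D.subgroupOf (St μ)) (hD.of_equiv (Subgroup.subgroupOfEquivOfLe hDS).symm)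
      ⟨⟨d, hDS hdD⟩, hdD, ⟨a, haB μ hμ⟩, haQ, fun h => hneμ
        (congrArg Subtype.val (LinearMap.congr_fun h ⟨v, hv⟩))⟩
    refine ⟨E.map (St μ).subtype, lt_of_le_of_ne ?_ fun h => hE.2 fun g hg => ?_,
      fun d hd => ⟨_, hsq ⟨d, hDS hd⟩ hd, rfl⟩, fun f z c hz hc hg hg' => ?_⟩
    · rintro _ ⟨g, hg, rfl⟩
      exact hE.le hg
    · obtain ⟨g', hg', he⟩ := (show (g : H) ∈ E.map (St μ).subtype from h.symm ▸ hg)
      rwa [← Subtype.ext he]
    obtain ⟨j, hmem, hst, hjf, hgood, hmin⟩ := horb μ hμ z f hg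
    obtain ⟨j', hmem', hst', -, hgood', hmin'⟩ := horb μ hμ (c * z) f hg'
    have hiff : ∀ k, z ^ k ∈ St μ ↔ (c * z) ^ k ∈ St μ := fun k => by
      have h : (c * z) ^ k = nrm k z c * z ^ k := by rw [nrm, inv_mul_cancel_right]
      rw [h, mul_mem_cancel_left (hDS (nrm_mem hz hc k))]
    obtain rfl : j = j' := le_antisymm (hmin _ ((hiff _).2 hst')) (hmin' _ ((hiff _).1 hst))
    rw [show f - 1 = j + (f - j - 1) by omega, pow_add, nrm_mul]
    set L := 2 ^ j
    let zs : St μ := ⟨z ^ L, hst⟩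
    let us : St μ := ⟨nrm L z c, hDS (nrm_mem hz hc L)⟩
    refine ⟨nrm (2 ^ (f - j - 1)) zs us, hn (f - j) zs us ?_ (nrm_mem hz hc L) ?_ ?_, ?_⟩
    · rw [Subgroup.mem_normalizer_iff]
      intro g
      rw [Subgroup.mem_subgroupOf, Subgroup.mem_subgroupOf]
      exact Subgroup.mem_normalizer_iff.1 (pow_mem hz L) g
    · convert hgood using 1
      refine LinearMap.ext fun v => Subtype.ext ?_
      show ψ (z ^ L) (v : V) = (ψ z ^ L) (v : V)
      rw [map_pow]
    · convert hgood' using 1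
      refine LinearMap.ext fun v => Subtype.ext ?_
      show ψ (nrm L z c * z ^ L) (v : V) = (ψ (c * z) ^ L) (v : V)
      rw [nrm, inv_mul_cancel_right, map_pow]
    · exact map_nrm (St μ).subtype _ _ _

end CfsgLib.FGS74.Bry
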