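import Cfsg.Agent.FGS74.Bry.Plane

/-!
# The norms in a two-group of isometries

For a nontrivial two-group `D` of isometries one proper subgroup containing the squares contains all
norms `(c * σ) ^ 2 ^ (f - 1) * (σ ^ 2 ^ (f - 1))⁻¹` of good elements.
-/

set_option autoImplicit false
set_option linter.style.haveILetI false

namespace CfsgLib.FGS74.Bry

universe u v

section Norm

variable {H : Type u} [Group H]

/-- The norm of `c` under `z`: the product of the first `h` conjugates. -/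
def nrm (h : ℕ) (z c : H) : H := (c * z) ^ h * (z ^ h)⁻¹

theorem nrm_mul (L k : ℕ) (z c : H) : nrm (L * k) z c = nrm k (z ^ L) (nrm L z c) := by
  rw [nrm, nrm, nrm, inv_mul_cancel_right, pow_mul, pow_mul]

theorem nrm_inv (h : ℕ) (z c : H) : nrm h (c * z) c⁻¹ = (nrm h z c)⁻¹ := by
  rw [nrm, nrm, inv_mul_cancel_left, mul_inv_rev, inv_inv]

theorem nrm_mem {D : Subgroup H} {z c : H} (hz : z ∈ Subgroup.normalizer (D : Set H)) (hc : c ∈ D)
    (n : ℕ) : nrm n z c ∈ D := by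
  induction n with
  | zero => simp [nrm, one_mem]
  | succ n ih =>
    have e : nrm (n + 1) z c = c * (z * nrm n z c * z⁻¹) := by
      simp only [nrm, pow_succ', mul_inv_rev, mul_assoc]
    rw [e]
    exact mul_mem hc ((Subgroup.mem_normalizer_iff.1 hz _).1 ih)

theorem map_nrm {H' : Type v} [Group H'] (φ : H →* H') (n : ℕ) (z c : H) :
    φ (nrm n z c) = nrm n (φ z) (φ c) := by
  simp [nrm]

end Norm

variable {M : Type u} [CommGroup M] [Finite M] {U : Type v} [CommGroup U] {B : M →* M →* U}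

/-- An element whose top is trivial or exceptional. -/
def Good (B : M →* M →* U) (f : ℕ) (σ : MulAut M) : Prop :=
  σ ^ 2 ^ (f - 1) = 1 ∨ Exc B f σ

variable (hB : Form B)
include hB

theorem one_sided {D D' : Subgroup (MulAut M)} (hDp : IsPGroup 2 D) (hDi : D ≤ isom B)
    (hsq : ∀ d ∈ D, d * d ∈ D') (hcomm : ∀ a ∈ D, ∀ b ∈ D, a * b * a⁻¹ * b⁻¹ ∈ D')
    (hΩ : Subgroup.closure {d : MulAut M | d ∈ D ∧ ((∃ e ∈ D, e * e = d) ∨ d * d = 1)} = D)
    {f : ℕ} {σ c : MulAut M} (hσ : Exc B f σ) (hN : σ ∈ Subgroup.normalizer (D : Set (MulAut M)))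
    (hc : c ∈ D) (h1 : (c * σ) ^ 2 ^ (f - 1) = 1) : nrm (2 ^ (f - 1)) σ c ∈ D' := by
  set K : Subgroup (MulAut M) := Subgroup.zpowers σ ⊔ D
  have hσK : σ ∈ K := Subgroup.mem_sup_left (Subgroup.mem_zpowers σ)
  have hcK : c ∈ K := Subgroup.mem_sup_right hc
  have hKp : IsPGroup 2 K := by
    refine IsPGroup.to_sup_of_normal_right' (fun g => ⟨f, Subtype.ext ?_⟩) hDp (Subgroup.zpowers_le.2 hN)
    obtain ⟨i, hi⟩ := Subgroup.mem_zpowers_iff.1 g.2
    rw [Subgroup.coe_pow, ← hi, ← zpow_natCast, ← zpow_mul, mul_comm, zpow_mul, zpow_natCast,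
      hσ.pow_q, one_zpow, Subgroup.coe_one]
  have hKi : K ≤ isom B := sup_le (Subgroup.zpowers_le.2 hσ.iso) hDi
  rcases Nat.lt_or_ge f 3 with hf | hf
  · exfalso
    obtain rfl : f = 2 := by have := hσ.two_le; omega
    obtain ⟨A, _, χ, hχσ, hχ2, hχinv⟩ := exists_parity hB hKp hKi hσ hσK
    have hker : D ≤ χ.ker.map K.subtype := by
      conv_lhs => rw [← hΩ]
      rw [Subgroup.closure_le]
      rintro d ⟨hd, ⟨e, he, rfl⟩ | hd2⟩
      · exact ⟨⟨e, Subgroup.mem_sup_right he⟩ * ⟨e, Subgroup.mem_sup_right he⟩,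
          (map_mul χ _ _).trans (hχ2 _), rfl⟩
      · exact ⟨⟨d, Subgroup.mem_sup_right hd⟩, hχinv _ (Subtype.ext hd2), rfl⟩
    obtain ⟨x, hx, hxc⟩ := hker hc
    obtain rfl : x = ⟨c, hcK⟩ := Subtype.ext hxc
    have h2 := hχinv (⟨c, hcK⟩ * ⟨σ, hσK⟩) (Subtype.ext (by
      show c * σ * (c * σ) = 1
      rw [← h1, show 2 ^ (2 - 1) = 2 from rfl, pow_two]))
    rw [map_mul, MonoidHom.mem_ker.1 hx, one_mul] at h2
    exact hχσ h2
  -- `σ` commutes with its conjugates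
  set c₁ := σ * c * σ⁻¹ * c⁻¹ with hc₁
  have hc₁D : c₁ ∈ D := mul_mem ((Subgroup.mem_normalizer_iff.1 hN c).1 hc) (inv_mem hc)
  have hcs : Commute σ c₁ := by
    have h := (commute_conj_self hB hKp hKi hσ hf hσK hcK).inv_right
    rw [hc₁, show σ * c * σ⁻¹ * c⁻¹ = σ * (c * σ * c⁻¹)⁻¹ by group]
    exact (Commute.refl σ).mul_right h
  have hconj : ∀ i : ℕ, σ ^ i * c * (σ ^ i)⁻¹ = c₁ ^ i * c := by
    intro i
    induction i with
    | zero => simp
    | succ i ih =>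
      calc σ ^ (i + 1) * c * (σ ^ (i + 1))⁻¹ = σ * (σ ^ i * c * (σ ^ i)⁻¹) * σ⁻¹ := by
            rw [pow_succ']; group
        _ = (σ * c₁ ^ i * σ⁻¹) * (σ * c * σ⁻¹ * c⁻¹) * c := by rw [ih]; group
        _ = c₁ ^ (i + 1) * c := by
            rw [(hcs.pow_right i).eq, mul_inv_cancel_right, ← hc₁, ← pow_succ]
  let a : ℕ → D := fun n => ⟨nrm n σ c, nrm_mem hN hc n⟩
  have ha : ∀ n, a (n + 1) = a n * (⟨c₁, hc₁D⟩ ^ n * ⟨c, hc⟩) := by
    intro n
    refine Subtype.ext ?_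
    show nrm (n + 1) σ c = nrm n σ c * (c₁ ^ n * c)
    rw [← hconj n, nrm, nrm, pow_succ (c * σ), pow_succ σ, mul_inv_rev]
    simp [mul_assoc]
  haveI hn : (D'.subgroupOf D).Normal := ⟨fun n hn g => by
    rw [Subgroup.mem_subgroupOf] at hn ⊢
    rw [show ((g * n * g⁻¹ : D) : MulAut M) = (g : MulAut M) * n * (g : MulAut M)⁻¹ * (n : MulAut M)⁻¹ * n by
      simp]
    exact mul_mem (hcomm _ g.2 _ n.2) hn⟩
  let π := QuotientGroup.mk' (D'.subgroupOf D)
  have hπ2 : ∀ d : D, π d * π d = 1 := fun d => by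
    rw [← map_mul, QuotientGroup.mk'_apply, QuotientGroup.eq_one_iff]
    exact hsq d d.2
  have hπc : ∀ x y : D, π x * π y = π y * π x := fun x y => by
    have h : ∀ d : D, (π d)⁻¹ = π d := fun d => inv_eq_of_mul_eq_one_right (hπ2 d)
    rw [← h (x), ← h (y), ← mul_inv_rev, ← map_mul, h, map_mul, h, h]
  set p := π ⟨c₁, hc₁D⟩
  set q := π ⟨c, hc⟩
  have hE : ∀ x y : ↥D ⧸ D'.subgroupOf D, x * y = y * x := fun x y => by
    induction x using QuotientGroup.induction_on with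
    | _ x =>
      induction y using QuotientGroup.induction_on with
      | _ y => exact hπc x y
  have h2 : ∀ n, π (a (n + 2)) = π (a n) * p := by
    intro n
    letI : CommGroup (↥D ⧸ D'.subgroupOf D) :=
      { (inferInstance : Group (↥D ⧸ D'.subgroupOf D)) with mul_comm := hE }
    have hP2 : p ^ n * p ^ n = 1 := by rw [← pow_add, ← two_mul, pow_mul, pow_two, hπ2, one_pow]
    rw [ha, ha, map_mul, map_mul, map_mul, map_mul, map_pow, map_pow, mul_assoc, pow_succ,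
      mul_mul_mul_comm, ← mul_assoc (p ^ n), hP2, one_mul, hπ2, mul_one]
  have h4 : ∀ n, π (a (n + 4)) = π (a n) := fun n => by
    rw [h2 (n + 2), h2 n, mul_assoc, hπ2, mul_one]
  have hfin : ∀ m, π (a (4 * m)) = 1 := by
    intro m
    induction m with
    | zero =>
      rw [show a (4 * 0) = 1 from Subtype.ext (by simp [a, nrm]), map_one]
    | succ m ih => rw [Nat.mul_succ, h4, ih]
  obtain ⟨m, hm⟩ : 4 ∣ 2 ^ (f - 1) := pow_dvd_pow 2 (show 2 ≤ f - 1 by omega)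
  have := hfin m
  rw [← hm, QuotientGroup.mk'_apply, QuotientGroup.eq_one_iff] at this
  exact this

/-- One proper subgroup contains the squares and all norms. -/
theorem leaf {D : Subgroup (MulAut M)} (hDp : IsPGroup 2 D) (hDi : D ≤ isom B) (hne : D ≠ ⊥) :
    ∃ D' < D, (∀ d ∈ D, d * d ∈ D') ∧ ∀ (f : ℕ) (σ c : MulAut M),
      σ ∈ Subgroup.normalizer (D : Set (MulAut M)) → c ∈ D → Good B f σ → Good B f (c * σ) →
      nrm (2 ^ (f - 1)) σ c ∈ D' := by
  haveI : Finite (MulAut M) :=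
    Finite.of_injective (fun g : MulAut M => (g : M → M)) DFunLike.coe_injective
  have key : ∀ {f : ℕ} {σ σ' : MulAut M}, σ ∈ Subgroup.normalizer (D : Set (MulAut M)) →
      σ' * σ⁻¹ ∈ D → Exc B f σ → Exc B f σ' → top f σ = top f σ' ∨ Commute σ σ' := by
    intro f σ σ' hN hσ'σ he he'
    have hKp : IsPGroup 2 (Subgroup.zpowers σ ⊔ D : Subgroup (MulAut M)) := by
      refine IsPGroup.to_sup_of_normal_right' (fun g => ⟨f, Subtype.ext ?_⟩) hDp (Subgroup.zpowers_le.2 hN)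
      obtain ⟨i, hi⟩ := Subgroup.mem_zpowers_iff.1 g.2
      rw [Subgroup.coe_pow, ← hi, ← zpow_natCast, ← zpow_mul, mul_comm, zpow_mul, zpow_natCast,
        he.pow_q, one_zpow, Subgroup.coe_one]
    refine top_eq_or_commute hB hKp (sup_le (Subgroup.zpowers_le.2 he.iso) hDi) he he'
      (Subgroup.mem_sup_left (Subgroup.mem_zpowers σ)) ?_
    rw [← inv_mul_cancel_right σ' σ]
    exact mul_mem (Subgroup.mem_sup_right hσ'σ) (Subgroup.mem_sup_left (Subgroup.mem_zpowers σ))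
  set S := {d : MulAut M | d ∈ D ∧ ((∃ e ∈ D, e * e = d) ∨ d * d = 1)} with hS
  by_cases hΩ : Subgroup.closure S = D
  swap
  · refine ⟨Subgroup.closure S, lt_of_le_of_ne ((Subgroup.closure_le _).2 fun d hd => hd.1) hΩ,
      fun d hd => Subgroup.subset_closure ⟨mul_mem hd hd, Or.inl ⟨d, hd, rfl⟩⟩,
      fun f σ c hN hc hg hg' => Subgroup.subset_closure ⟨nrm_mem hN hc _, Or.inr ?_⟩⟩
    show (c * σ) ^ 2 ^ (f - 1) * (σ ^ 2 ^ (f - 1))⁻¹ * ((c * σ) ^ 2 ^ (f - 1) * (σ ^ 2 ^ (f - 1))⁻¹) = 1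
    rcases hg with hg | hg <;> rcases hg' with hg' | hg'
    · simp [hg, hg']
    · rw [hg, inv_one, mul_one]
      exact hg'.top_sq
    · have := hg.top_sq
      rw [hg', one_mul, ← mul_inv_rev, inv_eq_one]
      exact this
    · rcases key hN (by rw [mul_inv_cancel_right]; exact hc) hg hg' with h | h
      · rw [show (c * σ) ^ 2 ^ (f - 1) = σ ^ 2 ^ (f - 1) from h.symm]; simp
      · have hcm := (h.pow_pow (2 ^ (f - 1)) (2 ^ (f - 1))).inv_left
        rw [hcm.mul_mul_mul_comm, show (c * σ) ^ 2 ^ (f - 1) * (c * σ) ^ 2 ^ (f - 1) = 1 from hg'.top_sq,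
          ← mul_inv_rev, show σ ^ 2 ^ (f - 1) * σ ^ 2 ^ (f - 1) = 1 from hg.top_sq]
        simp
  haveI := Fact.mk Nat.prime_two
  obtain ⟨k, hk⟩ := IsPGroup.iff_card.1 hDp
  have hk0 : k ≠ 0 := fun h => hne (Subgroup.card_eq_one.1 (by rw [hk, h, pow_zero]))
  obtain ⟨D₀, hD₀⟩ := Sylow.exists_subgroup_card_pow_prime (G := D) 2 (n := k - 1)
    (by rw [hk]; exact pow_dvd_pow 2 (by omega))
  have hidx : D₀.index = 2 := by
    have h := D₀.card_mul_index
    rw [hD₀, hk, show (2 : ℕ) ^ k = 2 ^ (k - 1) * 2 by rw [← pow_succ]; congr 1; omega] at h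
    exact Nat.eq_of_mul_eq_mul_left (Nat.two_pow_pos _) h
  haveI : D₀.Normal := Subgroup.normal_of_index_eq_two hidx
  have hcard : Nat.card (D ⧸ D₀) = 2 := hidx
  set π := QuotientGroup.mk' D₀
  have hsq : ∀ x : D ⧸ D₀, x * x = 1 := fun x => by
    rw [← pow_two, ← hcard, pow_card_eq_one']
  set D' := D₀.map D.subtype
  have hmem : ∀ {x : D}, π x = 1 → (x : MulAut M) ∈ D' := fun {x} h =>
    ⟨x, (QuotientGroup.eq_one_iff _).1 h, rfl⟩
  have hsqD : ∀ d ∈ D, d * d ∈ D' := fun d hd => hmem (x := ⟨d, hd⟩ * ⟨d, hd⟩) ((map_mul π _ _).trans (hsq _))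
  have hcommD : ∀ a ∈ D, ∀ b ∈ D, a * b * a⁻¹ * b⁻¹ ∈ D' := fun a ha b hb => by
    refine hmem (x := ⟨a, ha⟩ * ⟨b, hb⟩ * ⟨a, ha⟩⁻¹ * ⟨b, hb⟩⁻¹) ?_
    have hinv : ∀ x : D ⧸ D₀, x⁻¹ = x := fun x => inv_eq_of_mul_eq_one_right (hsq x)
    rw [map_mul, map_mul, map_mul, map_inv, map_inv, hinv, hinv, mul_assoc (π _ * π _)]
    exact hsq _
  refine ⟨D', lt_of_le_of_ne (Subgroup.map_subtype_le _) fun h => ?_,
    hsqD, fun f σ c hN hc hg hg' => ?_⟩
  · have h' : D₀ = ⊤ := Subgroup.map_injective D.subtype_injective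
      (h.trans ((Subgroup.range_subtype D).symm.trans (MonoidHom.range_eq_map D.subtype)))
    rw [h', Subgroup.index_top] at hidx
    exact absurd hidx (by norm_num)
  rcases hg with hg | hg <;> rcases hg' with hg' | hg'
  · rw [nrm, hg, hg', inv_one, one_mul]
    exact one_mem _
  · have hN' : c * σ ∈ Subgroup.normalizer (D : Set (MulAut M)) :=
      mul_mem (Subgroup.le_normalizer hc) hN
    have := one_sided hB hDp hDi hsqD hcommD hΩ hg' hN' (inv_mem hc)
      (by rw [inv_mul_cancel_left]; exact hg)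
    rw [nrm_inv] at this
    exact inv_mem_iff.1 this
  · exact one_sided hB hDp hDi hsqD hcommD hΩ hg hN hc hg'
  · rcases key hN (by rw [mul_inv_cancel_right]; exact hc) hg hg' with h | h
    · rw [nrm, show (c * σ) ^ 2 ^ (f - 1) = σ ^ 2 ^ (f - 1) from h.symm, mul_inv_cancel]
      exact one_mem _
    · have hcσ : Commute c σ := by
        have := h.symm.mul_left (Commute.refl σ).inv_left
        rwa [mul_inv_cancel_right] at this
      obtain ⟨k, hk⟩ : ∃ k, 2 ^ (f - 1) = k + k := ⟨2 ^ (f - 2), by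
        have := hg.two_le
        rw [← two_mul, ← pow_succ']; congr 1; omega⟩
      rw [nrm, hcσ.mul_pow, mul_inv_cancel_right, hk, pow_add]
      exact hsqD _ (pow_mem hc k)

end CfsgLib.FGS74.Bry
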