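import Cfsg.Agent.FGS74.Bry.Key
import Cfsg.Agent.Coprime.Action
import Cfsg.Agent.S3754

/-!
# Norms in the quotient by `O_{2'}`

A nontrivial normal two-subgroup of `H / O_{2'}(H)` has a proper subgroup containing the squares and
all norms of length `2 ^ e`, if the two-elements of `H` are annihilated by the geometric sum of
length `2 ^ (e + 1)` in a faithful representation in characteristic two.
-/

set_option autoImplicit false
set_option linter.style.haveILetI false

open Pointwise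

namespace CfsgLib.FGS74.Bry

open CfsgLib.FGS74.GrossLen

universe u v w

variable {K : Type u} [Field K] [CharP K 2] [IsAlgClosed K] {V : Type v} [AddCommGroup V]
  [Module K V] [FiniteDimensional K V] {H : Type w} [Group H] [Finite H]

/-- Invariant Sylow subgroups for all primes generate. -/
theorem exists_invariant_sylow_not_central {D N : Subgroup H} [N.Normal]
    (hcop : (Nat.card D).Coprime (Nat.card N)) (hD : Group.IsSolvable D)
    (hne : ¬ D ≤ Subgroup.centralizer (N : Set H)) :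
    ∃ (q : ℕ) (_ : Fact q.Prime) (P : Sylow q N),
      D ≤ Subgroup.normalizer (((P : Subgroup N).map N.subtype : Subgroup H) : Set H) ∧
      ∃ d ∈ D, ∃ a ∈ (P : Subgroup N).map N.subtype, d * a ≠ a * d := by
  by_contra hno
  push Not at hno
  refine hne fun d hd => Subgroup.mem_centralizer_iff.2 fun a ha => ?_
  let C : Subgroup N := (Subgroup.centralizer ({d} : Set H)).subgroupOf N
  have hC : ∀ x : N, x ∈ C ↔ (x : H) * d = d * x := fun x => by
    rw [Subgroup.mem_subgroupOf, Subgroup.mem_centralizer_singleton_iff]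
  suffices hCt : C = ⊤ from (hC ⟨a, ha⟩).1 (hCt ▸ Subgroup.mem_top _)
  rw [← Subgroup.index_eq_one, Nat.eq_one_iff_not_exists_prime_dvd]
  intro q hq hqd
  haveI := Fact.mk hq
  obtain ⟨P, hP⟩ := CfsgLib.Coprime.exists_invariant_sylow (A := D) (G := N)
    Subgroup.le_normalizer_of_normal hcop (Or.inl hD) q
  refine P.not_dvd_index (hqd.trans (Subgroup.index_dvd_of_le fun x hx => (hC x).2 ?_))
  exact (hno q ⟨hq⟩ P hP d hd x ⟨x, hx, rfl⟩).symm

/-- The norms in the quotient lie in a proper subgroup. -/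
theorem exists_norm_sub (hH : Cfsg.IsPSolvable 2 H) (hH0 : Cfsg.pCore 2 H = ⊥)
    (ψ : H →* Module.End K V) (hψ : Function.Injective ψ) {e : ℕ}
    (hgood : ∀ x : H, IsPGroup 2 (Subgroup.zpowers x) → TGood V (e + 1) (ψ x))
    {D : Subgroup (H ⧸ Cfsg.pPrimeCore 2 H)} [hDn : D.Normal] (hD : IsPGroup 2 D) (hD1 : D ≠ ⊥) :
    ∃ D' < D, (∀ d ∈ D, d * d ∈ D') ∧ ∀ z, IsPGroup 2 (Subgroup.zpowers z) → ∀ c ∈ D,
      nrm (2 ^ e) z c ∈ D' := by
  haveI := Fact.mk Nat.prime_two
  set N := Cfsg.pPrimeCore 2 H with hN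
  have hNodd : Odd (Nat.card N) :=
    Nat.coprime_two_right.1 (CfsgLib.PLocal.coprime_card_pPrimeCore 2 H)
  set π := QuotientGroup.mk' N with hπ
  have hπs : Function.Surjective π := QuotientGroup.mk'_surjective N
  set M := D.comap π with hM
  haveI : M.Normal := hDn.comap π
  let P₀ : Sylow 2 M := default
  set D₁ := (P₀ : Subgroup M).map M.subtype with hD₁
  have hD₁p : IsPGroup 2 D₁ := P₀.isPGroup'.map _
  have hcop : (Nat.card D₁).Coprime (Nat.card N) := by
    obtain ⟨k, hk⟩ := IsPGroup.iff_card.1 hD₁p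
    rw [hk]
    exact (Nat.coprime_two_left.2 hNodd).pow_left k
  have hdisj : ∀ x ∈ D₁, x ∈ N → x = 1 := fun x hx hxN => by
    have : x ∈ D₁ ⊓ N := ⟨hx, hxN⟩
    rwa [disjoint_iff.1 (Subgroup.disjoint_of_coprime_natCard hcop), Subgroup.mem_bot] at this
  have hD₁M : D₁.map π = D := by
    let f : M →* D := (π.comp M.subtype).codRestrict D fun x => x.2
    have hf : Function.Surjective f := by
      rintro ⟨y, hy⟩
      obtain ⟨x, rfl⟩ := hπs y
      exact ⟨⟨x, hy⟩, rfl⟩
    let P₁ := P₀.mapSurjective hf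
    have htop : ((P₁ : Subgroup D)) = ⊤ :=
      (P₁.is_maximal' (hD.of_equiv Subgroup.topEquiv.symm) le_top).symm
    have h2 : (P₀ : Subgroup M).map f = ⊤ := htop
    have h3 : ((P₀ : Subgroup M).map f).map D.subtype = D := by
      rw [h2, ← MonoidHom.range_eq_map, Subgroup.range_subtype]
    rw [hD₁, Subgroup.map_map]
    rw [Subgroup.map_map] at h3
    exact h3
  have hne : ¬ D₁ ≤ Subgroup.centralizer (N : Set H) := by
    intro h
    have hle := h.trans (Cfsg.Agent.S3754.centralizer_pPrimeCore_le hH hH0)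
    refine hD1 ?_
    rw [← hD₁M, Subgroup.map_eq_bot_iff, QuotientGroup.ker_mk']
    exact hle
  haveI := hD₁p.isNilpotent
  obtain ⟨q, hq, P, hP, hnc⟩ := exists_invariant_sylow_not_central hcop inferInstance hne
  haveI := hq
  set Q := (P : Subgroup N).map N.subtype with hQ
  have hQN : Q ≤ N := Subgroup.map_subtype_le _
  set L := Subgroup.normalizer (Q : Set H) with hL
  have hQL : Q ≤ L := Subgroup.le_normalizer
  have hQodd : Odd (Nat.card (Q.subgroupOf L)) := by
    rw [Nat.card_congr (Subgroup.subgroupOfEquivOfLe hQL).toEquiv]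
    exact hNodd.of_dvd_nat (Subgroup.card_dvd_of_le hQN)
  have hQsol : Group.IsSolvable (Q.subgroupOf L) := by
    haveI := ((P.isPGroup'.map N.subtype).of_equiv (Subgroup.subgroupOfEquivOfLe hQL).symm).isNilpotent
    infer_instance
  obtain ⟨d₀, hd₀, a₀, ha₀, hne₀⟩ := hnc
  obtain ⟨E, hE, hsq, hn⟩ := key (Module.finrank K V) (V := V) le_rfl (ψ.comp L.subtype)
    (hψ.comp L.subtype_injective) (Q.subgroupOf L) inferInstance hQodd hQsol (D₁.subgroupOf L)
    (hD₁p.of_equiv (Subgroup.subgroupOfEquivOfLe hP).symm)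
    ⟨⟨d₀, hP hd₀⟩, hd₀, ⟨a₀, hQL ha₀⟩, ha₀, fun h => hne₀ (congrArg Subtype.val h)⟩
  refine ⟨(E.map L.subtype).map π, ?_, fun d hd => ?_, fun z hz c hc => ?_⟩
  · refine lt_of_le_of_ne ?_ fun h => hE.2 fun g hg => ?_
    · rw [← hD₁M]
      refine Subgroup.map_mono ?_
      rintro _ ⟨g, hg, rfl⟩
      exact hE.le hg
    · have hmem : π g ∈ (E.map L.subtype).map π := by
        rw [h, ← hD₁M]
        exact Subgroup.mem_map_of_mem π hg
      obtain ⟨_, ⟨g', hg', rfl⟩, he⟩ := hmem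
      have h1 : (g' : H)⁻¹ * g = 1 := hdisj _ (mul_mem (inv_mem (hE.le hg')) hg) (by
        rw [← QuotientGroup.ker_mk' N, MonoidHom.mem_ker, map_mul, map_inv]
        exact inv_mul_eq_one.2 he)
      rwa [← Subtype.ext (inv_mul_eq_one.1 h1)]
  · rw [← hD₁M] at hd
    obtain ⟨d, hd, rfl⟩ := hd
    exact ⟨d * d, ⟨_, hsq ⟨d, hP hd⟩ hd, rfl⟩, map_mul π d d⟩
  -- lift `z` to a two-element normalising `D₁` and `Q`
  rw [← hD₁M] at hc
  obtain ⟨c, hc, rfl⟩ := hc
  have hfr := Subgroup.mem_top (G := H)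
  obtain ⟨z₀, rfl⟩ := hπs z
  obtain ⟨y, hy, m, hm, rfl⟩ : ∃ y ∈ Subgroup.normalizer (D₁ : Set H), ∃ m ∈ M, y * m = z₀ := by
    have h := Sylow.normalizer_sup_eq_top P₀
    have h' : z₀ ∈ (Subgroup.normalizer (D₁ : Set H) ⊔ M : Subgroup H) := by
      rw [hD₁, h]; exact hfr z₀
    rw [← SetLike.mem_coe, Subgroup.mul_normal, Set.mem_mul] at h'
    exact h'
  obtain ⟨d, hd, he⟩ : ∃ d ∈ D₁, π d = π m := by
    have : π m ∈ D₁.map π := by rw [hD₁M]; exact hm
    exact this
  have hyd : y * d ∈ Subgroup.normalizer (D₁ : Set H) := mul_mem hy (Subgroup.le_normalizer hd)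
  have hπyd : π (y * d) = π (y * m) := by rw [map_mul, map_mul, he]
  set z₁ := y * d with hz₁
  -- adjust by an element of the centraliser of `D₁` in `N`
  obtain ⟨n, hnN, hn'⟩ : ∃ n ∈ N ⊓ Subgroup.centralizer (D₁ : Set H),
      MulAut.conj n • (MulAut.conj z₁ • Q) = Q := by
    have hzQ : D₁ ≤ Subgroup.normalizer ((MulAut.conj z₁ • Q : Subgroup H) : Set H) := by
      intro a ha
      have h1 := hP ((Subgroup.mem_normalizer_iff'.1 hyd (z₁⁻¹ * a)).2 (by
        rw [mul_inv_cancel_left]; exact ha))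
      have h2 := CfsgLib.Coprime.conj_smul_eq_self h1
      refine CfsgLib.Coprime.le_normalizer_of_eq_self (A := Subgroup.zpowers a)
        (fun b hb => ?_) (Subgroup.mem_zpowers a)
      obtain ⟨i, rfl⟩ := Subgroup.mem_zpowers_iff.1 hb
      have h3 : MulAut.conj (z₁⁻¹ * a * z₁) • Q = Q := h2
      have h4 : ∀ k : ℤ, MulAut.conj (a ^ k) • (MulAut.conj z₁ • Q) = MulAut.conj z₁ • Q := by
        intro k
        have h5 : MulAut.conj (z₁⁻¹ * a * z₁) ∈ MulAction.stabilizer (MulAut H) Q := h3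
        have h6 : MulAut.conj ((z₁⁻¹ * a * z₁) ^ k) • Q = Q := by
          rw [map_zpow]
          exact Subgroup.zpow_mem _ h5 k
        rw [CfsgLib.Coprime.conj_smul_conj_smul, show a ^ k * z₁ = z₁ * (z₁⁻¹ * a * z₁) ^ k by
          rw [← inv_inv z₁, inv_inv z₁⁻¹, conj_zpow]; simp; group,
          ← CfsgLib.Coprime.conj_smul_conj_smul, h6]
      exact h4 i
    have hNn : D₁ ≤ Subgroup.normalizer (N : Set H) := Subgroup.le_normalizer_of_normal
    have hle : MulAut.conj z₁ • Q ≤ N := by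
      conv_rhs => rw [← Subgroup.Normal.conj_smul_eq_self z₁ N]
      exact Subgroup.pointwise_smul_le_pointwise_smul_iff.mpr hQN
    have hc' : Nat.card ((MulAut.conj z₁ • Q).subgroupOf N) = q ^ (Nat.card N).factorization q := by
      rw [Nat.card_congr (Subgroup.subgroupOfEquivOfLe hle).toEquiv, CfsgLib.Coprime.card_conj_smul,
        hQ, Subgroup.card_map_of_injective N.subtype_injective, P.card_eq_multiplicity]
    obtain ⟨g, hg, hgeq⟩ := CfsgLib.Coprime.exists_conj_map_sylow (Sylow.ofCard _ hc') P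
    rw [Sylow.coe_ofCard, Subgroup.subgroupOf_map_subtype, inf_eq_left.mpr hle] at hgeq
    exact CfsgLib.Coprime.exists_conj_eq_of_invariant hNn hcop (Or.inl inferInstance) hzQ hP hg hgeq
  have hnzL : n * z₁ ∈ L := by
    refine CfsgLib.Coprime.le_normalizer_of_eq_self (A := Subgroup.zpowers (n * z₁)) (fun b hb => ?_)
      (Subgroup.mem_zpowers _)
    obtain ⟨i, rfl⟩ := Subgroup.mem_zpowers_iff.1 hb
    have h5 : MulAut.conj (n * z₁) ∈ MulAction.stabilizer (MulAut H) Q := by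
      show MulAut.conj (n * z₁) • Q = Q
      rw [← CfsgLib.Coprime.conj_smul_conj_smul, hn']
    show MulAut.conj ((n * z₁) ^ i) • Q = Q
    rw [map_zpow]
    exact Subgroup.zpow_mem _ h5 i
  have hnzD : n * z₁ ∈ Subgroup.normalizer (D₁ : Set H) :=
    mul_mem (Subgroup.centralizer_le_normalizer _ hnN.2) hyd
  have hπnz : π (n * z₁) = π (y * m) := by
    rw [map_mul, show π n = 1 from (QuotientGroup.eq_one_iff n).2 hnN.1, one_mul, hπyd]
  set z₂ := n * z₁
  -- the two-part
  obtain ⟨s, t, ht, hord⟩ := exists_odd_pow_eq (x := z₂)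
  obtain ⟨r, hr⟩ := hz ⟨π (y * m), Subgroup.mem_zpowers _⟩
  have hr' : π z₂ ^ 2 ^ r = 1 := by rw [hπnz]; exact congrArg Subtype.val hr
  obtain ⟨l, hl⟩ := Nat.exists_mul_mod_eq_one_of_coprime
    (n := t) (k := 2 ^ (r + 1)) ((Nat.coprime_two_left.2 ht).pow_left (r + 1)).symm
    (Nat.one_lt_two_pow (by omega))
  set z₃ := z₂ ^ (t * l)
  have hz₃ : π z₃ = π (y * m) := by
    rw [map_pow, ← hπnz, ← pow_mod_orderOf, ← Nat.mod_mod_of_dvd (t * l)
      ((orderOf_dvd_of_pow_eq_one hr').trans (pow_dvd_pow 2 (Nat.le_succ r))), hl.2,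
      pow_mod_orderOf, pow_one]
  have hz₃L : z₃ ∈ L := pow_mem hnzL _
  have hz₃p : IsPGroup 2 (Subgroup.zpowers z₃) := by
    intro g
    refine ⟨s, Subtype.ext ?_⟩
    obtain ⟨i, hi⟩ := Subgroup.mem_zpowers_iff.1 g.2
    rw [Subgroup.coe_pow, ← hi, ← zpow_natCast, ← zpow_mul, mul_comm, zpow_mul, zpow_natCast,
      ← pow_mul, mul_comm t l, mul_assoc, mul_comm t, ← hord, mul_comm l, pow_mul, pow_orderOf_eq_one,
      one_pow, one_zpow, Subgroup.coe_one]
  have hz₃D : z₃ ∈ Subgroup.normalizer (D₁ : Set H) := pow_mem hnzD _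
  have hcz : IsPGroup 2 (Subgroup.zpowers (c * z₃)) :=
    (IsPGroup.to_sup_of_normal_right' hz₃p hD₁p (Subgroup.zpowers_le.2 hz₃D)).to_le
      (Subgroup.zpowers_le.2 (mul_mem (Subgroup.mem_sup_right hc)
        (Subgroup.mem_sup_left (Subgroup.mem_zpowers _))))
  have hfin := hn (e + 1) ⟨z₃, hz₃L⟩ ⟨c, hP hc⟩ (by
      rw [Subgroup.mem_normalizer_iff]
      intro g
      rw [Subgroup.mem_subgroupOf, Subgroup.mem_subgroupOf]
      exact Subgroup.mem_normalizer_iff.1 hz₃D g) hc (hgood z₃ hz₃p) (hgood _ hcz)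
  rw [Nat.add_sub_cancel] at hfin
  refine ⟨_, Subgroup.mem_map_of_mem L.subtype hfin, ?_⟩
  rw [map_nrm L.subtype, map_nrm π]
  show nrm (2 ^ e) (π z₃) (π c) = _
  rw [hz₃]

end CfsgLib.FGS74.Bry
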