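import Cfsg.Agent.FGS74.Bry.Lift
import Cfsg.Agent.HallHigman.LengthSetup

/-!
# The `2`-length is at most the exponent

The induction: a faithful representation in which all two-elements are annihilated by geometric sums
of length `2 ^ (e + 1)` gives one of the next quotient for length `2 ^ e`.
-/

set_option autoImplicit false
set_option linter.style.haveILetI false

open Finset
open scoped commutatorElement

namespace CfsgLib.FGS74.Bry

open CfsgLib.FGS74.GrossLen

universe u

local notation "𝕂" => AlgebraicClosure (ZMod 2)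

/-- In a nilpotent normal subgroup `[A, D] S < D` for `S < D`. -/
theorem le_of_le_sup_commutator {G : Type u} [Group G] {A D S : Subgroup G} [A.Normal] [D.Normal]
    [S.Normal] (hA : Group.IsNilpotent A) (hDA : D ≤ A) (h : D ≤ S ⊔ ⁅A, D⁆) : D ≤ S := by
  haveI := hA
  set π := QuotientGroup.mk' S
  have h1 : D.map π ≤ ⁅A.map π, D.map π⁆ := by
    refine (Subgroup.map_mono h).trans ?_
    rw [Subgroup.map_sup, QuotientGroup.map_mk'_self, bot_sup_eq, Subgroup.map_commutator]
  have h2 : ∀ n, D.map π ≤ (A.map π).lowerCentralSeries n := by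
    intro n
    induction n with
    | zero => exact Subgroup.map_mono hDA
    | succ n ih =>
      refine h1.trans ((Subgroup.commutator_mono le_rfl ih).trans ?_)
      rw [Subgroup.lowerCentralSeries_succ, Subgroup.commutator_comm]
  obtain ⟨n, hn⟩ := (Subgroup.isNilpotent_iff_lowerCentralSeries (S := A)).1 hA
  have h3 := h2 n
  rw [← Subgroup.map_lowerCentralSeries, hn, Subgroup.map_bot, le_bot_iff, Subgroup.map_eq_bot_iff,
    QuotientGroup.ker_mk'] at h3
  exact h3

theorem isPGroup_zpowers_conj {G : Type u} [Group G] {z : G} (hz : IsPGroup 2 (Subgroup.zpowers z))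
    (g : G) : IsPGroup 2 (Subgroup.zpowers (g * z * g⁻¹)) := by
  have := hz.map (MulAut.conj g).toMonoidHom
  rwa [MonoidHom.map_zpowers] at this

theorem eq_one_of_tGood_one {H : Type u} [Group H] [Finite H] {m : ℕ}
    (ψ : H →* Module.End 𝕂 (Fin m → 𝕂)) (hψ : Function.Injective ψ) {x : H}
    (hx : TGood (Fin m → 𝕂) 1 (ψ x)) : x = 1 := by
  haveI : CharP 𝕂 2 := charP_of_injective_algebraMap (algebraMap (ZMod 2) _).injective 2
  refine hψ (LinearMap.ext fun v => ?_)
  have h := hx v
  rw [show (2 : ℕ) ^ 1 = 2 from rfl, Finset.sum_range_succ, Finset.sum_range_one, pow_zero,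
    pow_one, Module.End.one_apply] at h
  rw [map_one, Module.End.one_apply]
  funext i
  have h2 := congrFun h i
  rw [Pi.add_apply, Pi.zero_apply, CharTwo.add_eq_zero] at h2
  exact h2.symm

theorem isPLengthLE_zero_of_trivial {H : Type u} [Group H] [Finite H]
    (h : ∀ x : H, IsPGroup 2 (Subgroup.zpowers x) → x = 1) : Cfsg.PLengthLE 2 0 H := by
  haveI := Fact.mk Nat.prime_two
  rw [CfsgLib.PLength.pLengthLE_zero_iff, Nat.coprime_comm, Nat.prime_two.coprime_iff_not_dvd]
  intro hdvd
  obtain ⟨x, hx⟩ := exists_prime_orderOf_dvd_card' (G := H) 2 hdvd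
  have hx1 := h x (IsPGroup.of_card (n := 1) (show Nat.card (Subgroup.zpowers x) = 2 ^ 1 by
    rw [Nat.card_zpowers, hx, pow_one]))
  rw [hx1, orderOf_one] at hx
  omega

set_option maxHeartbeats 1000000 in
/-- The faithful representation of the next quotient. -/
theorem exists_next_module {H : Type u} [Group H] [Finite H] (hH : Cfsg.IsPSolvable 2 H)
    (hH0 : Cfsg.pCore 2 H = ⊥) {m : ℕ} (ψ : H →* Module.End 𝕂 (Fin m → 𝕂))
    (hψ : Function.Injective ψ) {e : ℕ}
    (hgood : ∀ x : H, IsPGroup 2 (Subgroup.zpowers x) → TGood (Fin m → 𝕂) (e + 1) (ψ x)) :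
    ∃ (n : ℕ) (ψ₂ : (H ⧸ Cfsg.pPrimeCore 2 H) ⧸ Cfsg.pCore 2 (H ⧸ Cfsg.pPrimeCore 2 H) →*
        Module.End 𝕂 (Fin n → 𝕂)), Function.Injective ψ₂ ∧
      ∀ x, IsPGroup 2 (Subgroup.zpowers x) → TGood (Fin n → 𝕂) e (ψ₂ x) := by
  classical
  haveI := Fact.mk Nat.prime_two
  haveI : CharP 𝕂 2 := charP_of_injective_algebraMap (algebraMap (ZMod 2) _).injective 2
  set Hb := H ⧸ Cfsg.pPrimeCore 2 H
  have hHb : Cfsg.IsPSolvable 2 Hb := CfsgLib.PLocal.isPSolvable_quotient hH _
  have hHb0 : Cfsg.pPrimeCore 2 Hb = ⊥ := CfsgLib.PLocal.pPrimeCore_quotient_pPrimeCore_eq_bot 2 H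
  set A := Cfsg.pCore 2 Hb with hA
  have hAp : IsPGroup 2 A := CfsgLib.PLocal.isPGroup_pCore 2 Hb
  let ι := {D : Subgroup Hb // D.Normal ∧ D ≤ A}
  haveI hin : ∀ i : ι, (i.1).Normal := fun i => i.2.1
  haveI : Finite ι := Subtype.finite
  -- the squares and the norms
  let T : ι → Set Hb := fun i => {x | (∃ d ∈ i.1, d * d = x) ∨
    ∃ z, IsPGroup 2 (Subgroup.zpowers z) ∧ ∃ c ∈ i.1, nrm (2 ^ e) z c = x}
  let S : ι → Subgroup Hb := fun i => Subgroup.closure (T i)
  have hTD : ∀ i x, x ∈ T i → x ∈ i.1 := by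
    rintro i x (⟨d, hd, rfl⟩ | ⟨z, -, c, hc, rfl⟩)
    · exact mul_mem hd hd
    · exact nrm_mem (by rw [Subgroup.normalizer_eq_top]; exact Subgroup.mem_top z) hc _
  haveI hSn : ∀ i, (S i).Normal := fun i => ⟨fun x hx g => by
    have h : (S i).map (MulAut.conj g).toMonoidHom ≤ S i := by
      rw [MonoidHom.map_closure]
      refine Subgroup.closure_mono ?_
      rintro _ ⟨x, (⟨d, hd, rfl⟩ | ⟨z, hz, c, hc, rfl⟩), rfl⟩
      · exact Or.inl ⟨g * d * g⁻¹, (hin i).conj_mem d hd g, (map_mul (MulAut.conj g) d d).symm⟩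
      · exact Or.inr ⟨g * z * g⁻¹, isPGroup_zpowers_conj hz g, g * c * g⁻¹, (hin i).conj_mem c hc g,
          (map_nrm (MulAut.conj g).toMonoidHom _ z c).symm⟩
    exact h ⟨x, hx, rfl⟩⟩
  let P : ι → Subgroup Hb := fun i => S i ⊔ ⁅A, i.1⁆
  haveI hPn : ∀ i, (P i).Normal := fun i =>
    @Subgroup.sup_normal Hb _ (S i) ⁅A, i.1⁆ (hSn i) (Subgroup.commutator_normal A i.1)
  have hPle : ∀ i, P i ≤ i.1 := fun i =>
    sup_le ((Subgroup.closure_le _).2 (hTD i)) (Subgroup.commutator_le_right A i.1)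
  have hPlt : ∀ i : ι, i.1 ≠ ⊥ → P i < i.1 := by
    intro i hi
    refine lt_of_le_of_ne (hPle i) fun h => ?_
    obtain ⟨D', hD', hsq, hn⟩ := exists_norm_sub hH hH0 ψ hψ hgood (D := i.1) (hAp.to_le i.2.2) hi
    refine hD'.2 ((le_of_le_sup_commutator hAp.isNilpotent i.2.2 h.ge).trans
      ((Subgroup.closure_le _).2 ?_))
    rintro x (⟨d, hd, rfl⟩ | ⟨z, hz, c, hc, rfl⟩)
    · exact hsq d hd
    · exact hn z hz c hc
  -- the modules
  let Q : ι → Type u := fun i => i.1 ⧸ (P i).subgroupOf i.1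
  have hsq : ∀ (i : ι) (x : Q i), x * x = 1 := fun i x => by
    induction x using QuotientGroup.induction_on with
    | _ d =>
      rw [← QuotientGroup.mk_mul, QuotientGroup.eq_one_iff]
      exact Subgroup.mem_sup_left (Subgroup.subset_closure (Or.inl ⟨d, d.2, rfl⟩))
  letI : ∀ i, CommGroup (Q i) := fun i =>
    { (inferInstance : Group (i.1 ⧸ (P i).subgroupOf i.1)) with
      mul_comm := fun x y => by
        have h : ∀ a : Q i, a⁻¹ = a := fun a => inv_eq_of_mul_eq_one_right (hsq i a)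
        calc x * y = (x * y)⁻¹ := (h _).symm
          _ = y⁻¹ * x⁻¹ := mul_inv_rev x y
          _ = y * x := by rw [h, h] }
  have hmap : ∀ (i : ι) (g : Hb), ((P i).subgroupOf i.1).map
      ((MulAut.conjNormal g : MulAut i.1) : i.1 →* i.1) = (P i).subgroupOf i.1 := by
    intro i g
    ext x
    rw [Subgroup.mem_map]
    constructor
    · rintro ⟨y, hy, rfl⟩
      rw [Subgroup.mem_subgroupOf] at hy ⊢
      rw [MonoidHom.coe_coe, MulAut.conjNormal_apply]
      exact (hPn i).conj_mem _ hy g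
    · intro hx
      refine ⟨MulAut.conjNormal g⁻¹ x, ?_, ?_⟩
      · rw [Subgroup.mem_subgroupOf, MulAut.conjNormal_apply]
        exact (hPn i).conj_mem _ hx g⁻¹
      · rw [MonoidHom.coe_coe, ← MulAut.mul_apply, ← map_mul, mul_inv_cancel, map_one,
          MulAut.one_apply]
  let act : ∀ i, Hb →* MulAut (Q i) := fun i =>
    { toFun := fun g => QuotientGroup.congr _ _ (MulAut.conjNormal g : MulAut i.1) (hmap i g)
      map_one' := by
        ext x
        induction x using QuotientGroup.induction_on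
        simp
      map_mul' := fun g h => by
        ext x
        induction x using QuotientGroup.induction_on
        simp [MulAut.mul_apply] }
  have hact : ∀ i g (d : i.1), act i g (d : Q i) = ((MulAut.conjNormal g d : i.1) : Q i) :=
    fun i g d => rfl
  let W := ∀ i, Q i
  let c : Hb →* MulAut W :=
    { toFun := fun g => MulEquiv.piCongrRight fun i => act i g
      map_one' := MulEquiv.ext fun w => funext fun i => by simp
      map_mul' := fun g h => MulEquiv.ext fun w => funext fun i => by simp [MulAut.mul_apply] }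
  have hc : ∀ g (w : W) i, c g w i = act i g (w i) := fun g w i => rfl
  have hfix : ∀ g, c g = 1 → ∀ (i : ι) d, d ∈ i.1 → g * d * g⁻¹ * d⁻¹ ∈ P i := by
    intro g hg i d hd
    have h1 := congrFun (DFunLike.congr_fun hg (Function.update (1 : W) i ((⟨d, hd⟩ : i.1) : Q i))) i
    rw [hc, Function.update_self, MulAut.one_apply, Function.update_self, hact, eq_comm,
      QuotientGroup.eq, Subgroup.mem_subgroupOf] at h1
    have h2 := (hPn i).conj_mem _ h1 d
    simp only [Subgroup.coe_mul, Subgroup.coe_inv, MulAut.conjNormal_apply] at h2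
    convert h2 using 1
    group
  have hAker : ∀ g ∈ A, c g = 1 := by
    intro g hg
    refine MulEquiv.ext fun w => funext fun i => ?_
    rw [hc, MulAut.one_apply]
    induction w i using QuotientGroup.induction_on with
    | _ d =>
      rw [hact, eq_comm, QuotientGroup.eq, Subgroup.mem_subgroupOf]
      simp only [Subgroup.coe_mul, Subgroup.coe_inv, MulAut.conjNormal_apply]
      have h2 := (hPn i).conj_mem _
        (Subgroup.mem_sup_right (Subgroup.commutator_mem_commutator hg d.2)) (d : Hb)⁻¹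
      convert h2 using 1
      rw [commutatorElement_def]
      group
  -- odd elements of the kernel centralise `A`
  have hodd : ∀ g, c g = 1 → Odd (orderOf g) → g = 1 := by
    intro g hg ho
    have hcen : ∀ (n : ℕ) (i : ι), Nat.card i.1 ≤ n → ∀ d ∈ i.1, g * d = d * g := by
      intro n
      induction n with
      | zero => intro i hi; exact absurd hi (Nat.not_le.2 Nat.card_pos)
      | succ n ih =>
        intro i hi d hd
        by_cases hb : i.1 = ⊥
        · rw [hb, Subgroup.mem_bot] at hd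
          rw [hd, mul_one, one_mul]
        have hlt : Nat.card (P i) < Nat.card i.1 :=
          Set.Finite.card_lt_card (Set.toFinite _) (SetLike.coe_ssubset_coe.2 (hPlt i hb))
        set k := g * d * g⁻¹ * d⁻¹ with hk
        have hkP : k ∈ P i := hfix g hg i d hd
        have hgk : Commute g k := ih ⟨P i, hPn i, (hPle i).trans i.2.2⟩
          (Nat.le_of_lt_succ (hlt.trans_le hi)) k hkP
        have hpow : ∀ r : ℕ, g ^ r * d * (g ^ r)⁻¹ = k ^ r * d := by
          intro r
          induction r with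
          | zero => simp
          | succ r ihr =>
            calc g ^ (r + 1) * d * (g ^ (r + 1))⁻¹ = g * (g ^ r * d * (g ^ r)⁻¹) * g⁻¹ := by
                  rw [pow_succ']; group
              _ = (g * k ^ r * g⁻¹) * (g * d * g⁻¹ * d⁻¹) * d := by rw [ihr]; group
              _ = k ^ (r + 1) * d := by
                  rw [(hgk.pow_right r).eq, mul_inv_cancel_right, ← hk, ← pow_succ]
        have h1 := hpow (orderOf g)
        rw [pow_orderOf_eq_one, one_mul, inv_one, mul_one, right_eq_mul] at h1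
        obtain ⟨s, hs⟩ := hAp ⟨k, i.2.2 (hPle i hkP)⟩
        have hk2 : k ^ 2 ^ s = 1 := congrArg Subtype.val hs
        have h3 := Nat.eq_one_of_dvd_coprimes ((Nat.coprime_two_left.2 ho).pow_left s)
          (orderOf_dvd_of_pow_eq_one hk2) (orderOf_dvd_of_pow_eq_one h1)
        rw [orderOf_eq_one_iff, hk, mul_inv_eq_one, mul_inv_eq_iff_eq_mul] at h3
        exact h3
    have hgA : g ∈ A := CfsgLib.PLocal.centralizer_pCore_le hHb hHb0
      (Subgroup.mem_centralizer_iff.2 fun a ha =>
        (hcen _ ⟨A, inferInstance, le_rfl⟩ le_rfl a ha).symm)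
    obtain ⟨s, hs⟩ := hAp ⟨g, hgA⟩
    exact orderOf_eq_one_iff.1 (Nat.eq_one_of_dvd_coprimes ((Nat.coprime_two_left.2 ho).pow_left s)
      (orderOf_dvd_of_pow_eq_one (congrArg Subtype.val hs : g ^ 2 ^ s = 1)) dvd_rfl)
  have hker : c.ker = A := by
    refine le_antisymm (CfsgLib.PLocal.le_pCore ?_) fun g hg => hAker g hg
    rintro ⟨g, hg⟩
    obtain ⟨s, t, ht, hord⟩ := exists_odd_pow_eq (x := g)
    refine ⟨s, Subtype.ext ?_⟩
    rw [Subgroup.coe_pow, Subgroup.coe_one]
    refine hodd _ (by rw [map_pow, MonoidHom.mem_ker.1 hg, one_pow]) (ht.of_dvd_nat ?_)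
    refine orderOf_dvd_of_pow_eq_one ?_
    rw [← pow_mul, ← hord, pow_orderOf_eq_one]
  haveI : Finite W := Pi.finite
  obtain ⟨n, Φ, hΦ, hΦsum⟩ := CfsgLib.ShultGross.exists_operators (r := 2) W
    fun w => funext fun i => by rw [Pi.pow_apply, pow_two]; exact hsq i (w i)
  refine ⟨n, QuotientGroup.lift A (Φ.comp c) (fun g hg => by
    rw [MonoidHom.mem_ker, MonoidHom.comp_apply, hAker g hg, map_one]), ?_, fun x hx => ?_⟩
  · intro a b h
    induction a using QuotientGroup.induction_on with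
    | H a =>
      induction b using QuotientGroup.induction_on with
      | H b =>
        have h1 : c a = c b := hΦ h
        refine QuotientGroup.eq.2 (hker.le (MonoidHom.mem_ker.2 ?_))
        rw [map_mul, map_inv, h1, inv_mul_cancel]
  induction x using QuotientGroup.induction_on with
  | H g =>
    have hg : IsPGroup 2 (Subgroup.zpowers g) := by
      refine (hx.comap_of_ker_isPGroup (QuotientGroup.mk' A) (by rw [QuotientGroup.ker_mk']; exact hAp)).to_le ?_
      rw [Subgroup.zpowers_le, Subgroup.mem_comap]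
      exact Subgroup.mem_zpowers _
    have hsum := hΦsum (c g) (2 ^ e) fun w => funext fun i => by
      rw [Finset.prod_apply, Pi.one_apply]
      obtain ⟨d, hd⟩ : ∃ d : i.1, (d : Q i) = w i := ⟨_, QuotientGroup.out_eq' _⟩
      have hgn : g ∈ Subgroup.normalizer (i.1 : Set Hb) := by
        rw [Subgroup.normalizer_eq_top]; exact Subgroup.mem_top g
      have hk : ∀ k : ℕ, ∏ r ∈ range k, (c g ^ r) w i =
          ((⟨nrm k g d, nrm_mem hgn d.2 k⟩ : i.1) : Q i) := by
        intro k
        induction k with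
        | zero =>
          rw [Finset.prod_range_zero, eq_comm, QuotientGroup.eq_one_iff, Subgroup.mem_subgroupOf]
          simp [nrm]
        | succ k ih =>
          rw [Finset.prod_range_succ, ih, ← map_pow, hc, ← hd, hact, ← QuotientGroup.mk_mul]
          refine congrArg _ (Subtype.ext ?_)
          simp only [Subgroup.coe_mul, MulAut.conjNormal_apply, nrm]
          rw [pow_succ ((d : Hb) * g), pow_succ g, mul_inv_rev]
          simp [mul_assoc]
      rw [hk, QuotientGroup.eq_one_iff, Subgroup.mem_subgroupOf]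
      exact Subgroup.mem_sup_left (Subgroup.subset_closure (Or.inr ⟨g, hg, d, d.2, rfl⟩))
    intro v
    have h1 := LinearMap.congr_fun hsum v
    rwa [LinearMap.sum_apply, LinearMap.zero_apply] at h1

/-- The length under the hypothesis on the representation. -/
theorem pLengthLE_of_tGood : ∀ (e : ℕ) {H : Type u} [Group H] [Finite H],
    Cfsg.IsPSolvable 2 H → Cfsg.pCore 2 H = ⊥ → ∀ (m : ℕ) (ψ : H →* Module.End 𝕂 (Fin m → 𝕂)),
    Function.Injective ψ →
    (∀ x : H, IsPGroup 2 (Subgroup.zpowers x) → TGood (Fin m → 𝕂) (e + 1) (ψ x)) →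
    Cfsg.PLengthLE 2 e H := by
  haveI := Fact.mk Nat.prime_two
  intro e
  induction e with
  | zero =>
    intro H _ _ _ _ m ψ hψ hgood
    exact isPLengthLE_zero_of_trivial fun x hx => eq_one_of_tGood_one ψ hψ (hgood x hx)
  | succ e ih =>
    intro H _ _ hH hH0 m ψ hψ hgood
    set Hb := H ⧸ Cfsg.pPrimeCore 2 H
    obtain ⟨n, ψ₂, hψ₂, hgood₂⟩ := exists_next_module hH hH0 ψ hψ hgood
    have h2 := CfsgLib.PLength.pLengthLE_one_of_isPGroup (p := 2)
      (CfsgLib.PLocal.isPGroup_pCore 2 Hb)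
    have h0 : Cfsg.PLengthLE 2 0 (Cfsg.pPrimeCore 2 H) :=
      CfsgLib.PLength.pLengthLE_zero_iff.2 (CfsgLib.PLocal.coprime_card_pPrimeCore 2 H)
    have hb2 := CfsgLib.PLength.pLengthLE_extension (Cfsg.pCore 2 Hb) h2
      (ih (CfsgLib.PLocal.isPSolvable_quotient (CfsgLib.PLocal.isPSolvable_quotient hH _) _)
        (CfsgLib.PLocal.pCore_quotient_pCore_eq_bot 2 Hb) n ψ₂ hψ₂ hgood₂)
    exact CfsgLib.PLength.pLengthLE_mono (by omega)
      (CfsgLib.PLength.pLengthLE_extension (Cfsg.pPrimeCore 2 H) h0 hb2)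

/-- The `2`-length is at most the exponent. -/
theorem pLengthLE_exponent : ∀ (e : ℕ) {G : Type u} [Group G] [Finite G],
    Cfsg.IsPSolvable 2 G → (∀ P : Sylow 2 G, ∀ x ∈ (P : Subgroup G), x ^ 2 ^ e = 1) →
    Cfsg.PLengthLE 2 e G := by
  haveI := Fact.mk Nat.prime_two
  intro e G _ _ hG hexp
  rcases Nat.eq_zero_or_pos e with rfl | he
  · refine isPLengthLE_zero_of_trivial fun x hx => ?_
    obtain ⟨P, hP⟩ := hx.exists_le_sylow
    simpa using hexp P x (hP (Subgroup.mem_zpowers x))
  obtain ⟨e, rfl⟩ : ∃ e', e = e' + 1 := ⟨e - 1, by omega⟩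
  set N := Cfsg.pPrimeCore 2 G
  set G₁ := G ⧸ N
  have hG1 : Cfsg.IsPSolvable 2 G₁ := CfsgLib.PLocal.isPSolvable_quotient hG N
  have hO : Cfsg.pPrimeCore 2 G₁ = ⊥ := CfsgLib.PLocal.pPrimeCore_quotient_pPrimeCore_eq_bot 2 G
  obtain ⟨m, ψ, hψ, hrel⟩ := CfsgLib.HallHigman.exists_frattini_module hG1 hO
    (CfsgLib.HallHigman.exponent_quotient hexp N)
  have hgood : ∀ x : G₁ ⧸ Cfsg.pCore 2 G₁, IsPGroup 2 (Subgroup.zpowers x) →
      TGood (Fin m → 𝕂) (e + 1) (ψ x) := by
    intro x hx v
    rcases Nat.eq_zero_or_pos m with rfl | hm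
    · exact Subsingleton.elim _ _
    haveI : Nonempty (Fin m) := ⟨⟨0, hm⟩⟩
    haveI : CharP (Module.End 𝕂 (Fin m → 𝕂)) 2 :=
      charP_of_injective_algebraMap (algebraMap 𝕂 _).injective 2
    have h := hrel x hx
    rw [← CfsgLib.HallHigman.geom_sum_eq_sub_one_pow] at h
    have h1 := LinearMap.congr_fun h v
    rwa [LinearMap.sum_apply, LinearMap.zero_apply] at h1
  have h1 := CfsgLib.PLength.pLengthLE_one_of_isPGroup (p := 2) (CfsgLib.PLocal.isPGroup_pCore 2 G₁)
  have h2 := CfsgLib.PLength.pLengthLE_extension (Cfsg.pCore 2 G₁) h1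
    (pLengthLE_of_tGood e (CfsgLib.PLocal.isPSolvable_quotient hG1 _)
      (CfsgLib.PLocal.pCore_quotient_pCore_eq_bot 2 G₁) m ψ hψ hgood)
  have h0 : Cfsg.PLengthLE 2 0 N :=
    CfsgLib.PLength.pLengthLE_zero_iff.2 (CfsgLib.PLocal.coprime_card_pPrimeCore 2 G)
  exact CfsgLib.PLength.pLengthLE_mono (by omega) (CfsgLib.PLength.pLengthLE_extension N h0 h2)

end CfsgLib.FGS74.Bry
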