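import Mathlib.GroupTheory.Sylow
import Mathlib.GroupTheory.Nilpotent
import Mathlib.GroupTheory.GroupAction.Quotient
import Mathlib.Tactic

/-!
# Isometries of an abelian group of odd order with a small plane

`Exc B f σ` says that `σ` has order `2 ^ f`, fixes the fixed points of its top `σ ^ 2 ^ (f - 1)`,
and that the top inverts a plane over the prime `2 ^ f - 1`. In a two-group of isometries the tops of
such elements commute.
-/

set_option autoImplicit false
set_option linter.style.haveILetI false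

namespace CfsgLib.FGS74.Bry

universe u v

variable {M : Type u} [CommGroup M] {U : Type v} [CommGroup U]

/-- A nondegenerate alternating pairing on a group of odd order. -/
structure Form (B : M →* M →* U) : Prop where
  odd : Odd (Nat.card M)
  self : ∀ m, B m m = 1
  nd : ∀ m, (∀ k, B k m = 1) → m = 1

/-- Isometries. -/
def isom (B : M →* M →* U) : Subgroup (MulAut M) where
  carrier := {σ | ∀ a b, B (σ a) (σ b) = B a b}
  one_mem' := fun _ _ => rfl
  mul_mem' := fun {σ τ} hσ hτ a b => (hσ _ _).trans (hτ a b)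
  inv_mem' := fun {σ} hσ a b => by
    rw [← hσ (σ⁻¹ a) (σ⁻¹ b), ← MulAut.mul_apply, ← MulAut.mul_apply, mul_inv_cancel,
      MulAut.one_apply, MulAut.one_apply]

theorem mem_isom {B : M →* M →* U} {σ : MulAut M} :
    σ ∈ isom B ↔ ∀ a b, B (σ a) (σ b) = B a b := Iff.rfl

/-- Inverted elements. -/
def mns (τ : MulAut M) : Subgroup M where
  carrier := {m | τ m = m⁻¹}
  one_mem' := by simp
  mul_mem' := fun {a b} (ha : τ a = a⁻¹) (hb : τ b = b⁻¹) => by
    show τ (a * b) = (a * b)⁻¹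
    rw [map_mul, ha, hb, mul_inv]
  inv_mem' := fun {a} (ha : τ a = a⁻¹) => by
    show τ a⁻¹ = a⁻¹⁻¹
    rw [map_inv, ha]

theorem mem_mns {τ : MulAut M} {m : M} : m ∈ mns τ ↔ τ m = m⁻¹ := Iff.rfl

theorem mem_mns_conj {g τ : MulAut M} {m : M} : m ∈ mns (g * τ * g⁻¹) ↔ g⁻¹ m ∈ mns τ := by
  rw [mem_mns, mem_mns, MulAut.mul_apply, MulAut.mul_apply, ← map_inv]
  constructor
  · intro h
    have := congrArg (g⁻¹ : MulAut M) h
    rwa [← MulAut.mul_apply, inv_mul_cancel, MulAut.one_apply] at this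
  · intro h
    rw [h, ← MulAut.mul_apply, mul_inv_cancel, MulAut.one_apply]

namespace Form

variable {B : M →* M →* U} (hB : Form B)
include hB

theorem swap (a b : M) : B a b * B b a = 1 := by
  have h := hB.self (a * b)
  simp only [map_mul, MonoidHom.mul_apply, hB.self, one_mul, mul_one] at h
  rw [mul_comm]
  exact h

theorem eq_one_swap {a b : M} (h : B a b = 1) : B b a = 1 := by
  have := hB.swap a b
  rwa [h, one_mul] at this

theorem eq_one_of_sq [Finite M] {m : M} (h : m * m = 1) : m = 1 := by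
  have h2 := hB.odd.of_dvd_nat (orderOf_dvd_natCard m)
  rcases (Nat.dvd_prime Nat.prime_two).1 (orderOf_dvd_of_pow_eq_one (show m ^ 2 = 1 by
    rw [pow_two, h])) with h3 | h3
  · exact orderOf_eq_one_iff.1 h3
  · rw [h3] at h2; exact absurd h2 (by decide)

theorem exists_sq [Finite M] (m : M) : ∃ u, u * u = m := by
  obtain ⟨u, hu⟩ := Finite.surjective_of_injective (f := fun u : M => u * u)
    (fun a b (hab : a * a = b * b) => div_eq_one.1 (hB.eq_one_of_sq (by
      rw [div_mul_div_comm, hab, div_self']))) m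
  exact ⟨u, hu⟩

theorem eq_one_of_fix_inv [Finite M] {τ : MulAut M} {m : M} (h1 : τ m = m) (h2 : τ m = m⁻¹) :
    m = 1 :=
  hB.eq_one_of_sq (mul_eq_one_iff_eq_inv.2 (h1.symm.trans h2))

theorem split [Finite M] {τ : MulAut M} (hτ : τ * τ = 1) (m : M) :
    ∃ c w, τ c = c ∧ w ∈ mns τ ∧ m = c * w := by
  obtain ⟨u, hu⟩ := hB.exists_sq m
  have hττ : τ (τ u) = u := by rw [← MulAut.mul_apply, hτ, MulAut.one_apply]
  refine ⟨u * τ u, u * (τ u)⁻¹, by rw [map_mul, hττ, mul_comm], ?_, ?_⟩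
  · rw [mem_mns, map_mul, map_inv, hττ, mul_inv_rev, inv_inv]
  · rw [mul_mul_mul_comm, hu, mul_inv_cancel, mul_one]

theorem value_eq_one {m k : M} (h : B m k * B m k = 1) : B m k = 1 := by
  have h1 : B m k ^ Nat.card M = 1 := by rw [← map_pow, pow_card_eq_one', map_one]
  have h2 : orderOf (B m k) ∣ 2 := orderOf_dvd_of_pow_eq_one (by rw [pow_two, h])
  have h3 := hB.odd.of_dvd_nat (orderOf_dvd_of_pow_eq_one h1)
  rcases (Nat.dvd_prime Nat.prime_two).1 h2 with h4 | h4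
  · exact orderOf_eq_one_iff.1 h4
  · rw [h4] at h3; exact absurd h3 (by decide)

theorem perp {τ : MulAut M} (hτ : τ ∈ isom B) {c w : M} (hc : τ c = c) (hw : w ∈ mns τ) :
    B c w = 1 := by
  refine hB.value_eq_one ?_
  nth_rw 1 [← hτ c w]
  rw [hc, mem_mns.1 hw, map_inv, inv_mul_cancel]

theorem fix_of_perp [Finite M] {τ : MulAut M} (hi : τ ∈ isom B) (hτ : τ * τ = 1) {m : M}
    (h : ∀ w ∈ mns τ, B m w = 1) : τ m = m := by
  obtain ⟨c, v, hc, hv, rfl⟩ := hB.split hτ m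
  suffices v = 1 by rw [this, mul_one, hc]
  refine hB.nd v fun k => ?_
  obtain ⟨c', w, hc', hw, rfl⟩ := hB.split hτ k
  have h1 := h w hw
  rw [map_mul, MonoidHom.mul_apply, hB.perp hi hc hw, one_mul] at h1
  rw [map_mul, MonoidHom.mul_apply, hB.perp hi hc' hv, one_mul]
  exact hB.eq_one_swap h1

theorem mns_ne_bot [Finite M] {τ : MulAut M} (hτ : τ * τ = 1) (h : τ ≠ 1) : mns τ ≠ ⊥ := by
  intro hb
  refine h (MulEquiv.ext fun m => ?_)
  obtain ⟨c, w, hc, hw, rfl⟩ := hB.split hτ m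
  rw [hb, Subgroup.mem_bot] at hw
  rw [hw, mul_one, hc, MulAut.one_apply]

theorem commute_of_preserve [Finite M] {τ ρ : MulAut M} (hi : τ ∈ isom B) (hτ : τ * τ = 1)
    (hρ : ρ ∈ isom B) (h : ∀ w ∈ mns τ, ρ w ∈ mns τ) : Commute ρ τ := by
  have hsurj : ∀ w ∈ mns τ, ∃ w' ∈ mns τ, ρ w' = w := by
    intro w hw
    obtain ⟨⟨w', hw'⟩, he⟩ := Finite.surjective_of_injective
      (f := fun x : mns τ => (⟨ρ x, h x x.2⟩ : mns τ))
      (fun a b hab => Subtype.ext (ρ.injective (congrArg Subtype.val hab :))) ⟨w, hw⟩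
    exact ⟨w', hw', congrArg Subtype.val he⟩
  refine MulEquiv.ext fun m => ?_
  obtain ⟨c, v, hc, hv, rfl⟩ := hB.split hτ m
  have hρc : τ (ρ c) = ρ c := by
    refine hB.fix_of_perp hi hτ fun w hw => ?_
    obtain ⟨w', hw', rfl⟩ := hsurj w hw
    rw [hρ c w', hB.perp hi hc hw']
  rw [MulAut.mul_apply, MulAut.mul_apply, map_mul τ, hc, mem_mns.1 hv, map_mul ρ, map_mul ρ,
    map_mul τ, hρc, mem_mns.1 (h v hv), map_inv]

end Form

/-- The top of an element of order `2 ^ f`. -/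
def top (f : ℕ) (σ : MulAut M) : MulAut M := σ ^ 2 ^ (f - 1)

theorem top_conj (f : ℕ) (g σ : MulAut M) : top f (g * σ * g⁻¹) = g * top f σ * g⁻¹ := conj_pow

/-- An exceptional isometry. -/
structure Exc (B : M →* M →* U) (f : ℕ) (σ : MulAut M) : Prop where
  two_le : 2 ≤ f
  iso : σ ∈ isom B
  pow_q : σ ^ 2 ^ f = 1
  prime : (2 ^ f - 1).Prime
  card : Nat.card (mns (top f σ)) = (2 ^ f - 1) ^ 2
  exp : ∀ w ∈ mns (top f σ), w ^ (2 ^ f - 1) = 1
  fixes : ∀ m, top f σ m = m → σ m = m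
  npow : ∀ w ∈ mns (top f σ), w ≠ 1 → ∀ i : ℕ, σ w ≠ w ^ i

namespace Exc

variable {B : M →* M →* U} {f : ℕ} {σ : MulAut M} (hσ : Exc B f σ)
include hσ

theorem top_sq : top f σ * top f σ = 1 := by
  have := hσ.two_le
  rw [top, ← pow_add, show 2 ^ (f - 1) + 2 ^ (f - 1) = 2 ^ f by
    rw [← two_mul, ← pow_succ']; congr 1; omega, hσ.pow_q]

theorem top_iso : top f σ ∈ isom B := pow_mem hσ.iso _

theorem top_comm (m : M) : top f σ (σ m) = σ (top f σ m) := by
  rw [← MulAut.mul_apply, ← MulAut.mul_apply, top, ← pow_succ, pow_succ']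

theorem mapsTo {w : M} (hw : w ∈ mns (top f σ)) : σ w ∈ mns (top f σ) := by
  rw [mem_mns, hσ.top_comm, mem_mns.1 hw, map_inv]

theorem exists_ne : ∃ w ∈ mns (top f σ), w ≠ 1 := by
  have h1 : 1 < Nat.card (mns (top f σ)) := by
    rw [hσ.card]
    exact Nat.one_lt_pow two_ne_zero hσ.prime.one_lt
  haveI : Finite (mns (top f σ)) := Nat.finite_of_card_ne_zero (by omega)
  haveI := Finite.one_lt_card_iff_nontrivial.1 h1
  obtain ⟨w, hw⟩ := _root_.exists_ne (1 : mns (top f σ))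
  exact ⟨w, w.2, fun h => hw (Subtype.ext h)⟩

theorem conj {g : MulAut M} (hg : g ∈ isom B) : Exc B f (g * σ * g⁻¹) := by
  have hmem : ∀ {m}, m ∈ mns (top f (g * σ * g⁻¹)) ↔ g⁻¹ m ∈ mns (top f σ) := fun {m} => by
    rw [top_conj, mem_mns_conj]
  have hgg : ∀ m, g (g⁻¹ m) = m := fun m => by
    rw [← MulAut.mul_apply, mul_inv_cancel, MulAut.one_apply]
  refine ⟨hσ.two_le, mul_mem (mul_mem hg hσ.iso) (inv_mem hg), by
    rw [conj_pow, hσ.pow_q, mul_one, mul_inv_cancel], hσ.prime, ?_, ?_, ?_, ?_⟩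
  · rw [← hσ.card]
    refine Nat.card_congr ((g⁻¹ : MulAut M).toEquiv.subtypeEquiv fun m => ?_)
    exact hmem
  · intro w hw
    have h := congrArg g (hσ.exp _ (hmem.1 hw))
    rwa [map_pow, hgg, map_one] at h
  · intro m hm
    rw [top_conj, MulAut.mul_apply, MulAut.mul_apply] at hm
    have h1 : top f σ (g⁻¹ m) = g⁻¹ m := g.injective (by rw [hm, hgg])
    rw [MulAut.mul_apply, MulAut.mul_apply, hσ.fixes _ h1, hgg]
  · intro w hw hw1 i h
    have h0 : g⁻¹ w ≠ 1 := fun h0 => hw1 (by rw [← hgg w, h0, map_one])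
    refine hσ.npow _ (hmem.1 hw) h0 i (g.injective ?_)
    rw [map_pow, hgg]
    exact h

theorem move (hB : Form B) [Finite M] (m : M) : σ m * m⁻¹ ∈ mns (top f σ) := by
  obtain ⟨c, w, hc, hw, rfl⟩ := hB.split hσ.top_sq m
  rw [map_mul, hσ.fixes c hc, mul_inv, mul_mul_mul_comm, mul_inv_cancel, one_mul]
  exact mul_mem (hσ.mapsTo hw) (inv_mem hw)

end Exc

/-- Cyclic subgroups are isotropic. -/
theorem Form.cyclic_iso {B : M →* M →* U} (hB : Form B) {P : Subgroup M} [IsCyclic P] {a b : M}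
    (ha : a ∈ P) (hb : b ∈ P) : B a b = 1 := by
  obtain ⟨g, hg⟩ := IsCyclic.exists_generator (α := P)
  obtain ⟨i, hi⟩ := Subgroup.mem_zpowers_iff.1 (hg ⟨a, ha⟩)
  obtain ⟨j, hj⟩ := Subgroup.mem_zpowers_iff.1 (hg ⟨b, hb⟩)
  have hi' : (g : M) ^ i = a := congrArg Subtype.val hi
  have hj' : (g : M) ^ j = b := congrArg Subtype.val hj
  rw [← hi', ← hj', map_zpow (B ((g : M) ^ i)), map_zpow B]
  show (B (g : M) (g : M) ^ i) ^ j = 1
  rw [hB.self, one_zpow, one_zpow]

section Finite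

variable [Finite M] {B : M →* M →* U} (hB : Form B)
include hB

/-- Two commuting tops for the same prime are equal or move disjoint planes. -/
theorem commuting_tops {f : ℕ} {σ σ' : MulAut M} (hσ : Exc B f σ) (hσ' : Exc B f σ')
    (hc : Commute (top f σ) (top f σ')) :
    top f σ = top f σ' ∨ ((∀ w ∈ mns (top f σ), top f σ' w = w) ∧
      ∀ w ∈ mns (top f σ'), top f σ w = w) := by
  have key : ∀ {σ σ' : MulAut M}, Exc B f σ → Exc B f σ' → Commute (top f σ) (top f σ') →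
      mns (top f σ) ≤ mns (top f σ') ∨ ∀ w ∈ mns (top f σ), top f σ' w = w := by
    intro σ σ' hσ hσ' hc
    set τ := top f σ
    set ρ := top f σ'
    set W := mns τ
    have hρρ : ∀ m, ρ (ρ m) = m := fun m => by
      rw [← MulAut.mul_apply, hσ'.top_sq, MulAut.one_apply]
    have hρW : ∀ w ∈ W, ρ w ∈ W := fun w hw => by
      rw [mem_mns, ← MulAut.mul_apply, hc.eq, MulAut.mul_apply, mem_mns.1 hw, map_inv]
    let Wp : Subgroup M := W ⊓ MonoidHom.eqLocus ρ.toMonoidHom (MonoidHom.id M)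
    let Wm : Subgroup M := W ⊓ mns ρ
    have hdec : ∀ w ∈ W, ∃ c ∈ Wp, ∃ v ∈ Wm, w = c * v := by
      intro w hw
      obtain ⟨u, hu⟩ := hB.exists_sq w
      have huW : u ∈ W := by
        refine mem_mns.2 (eq_inv_of_mul_eq_one_left (hB.eq_one_of_sq ?_))
        rw [mul_mul_mul_comm, ← map_mul, hu, mem_mns.1 hw, inv_mul_cancel]
      refine ⟨u * ρ u, ⟨mul_mem huW (hρW u huW), ?_⟩, u * (ρ u)⁻¹,
        ⟨W.mul_mem huW (W.inv_mem (hρW u huW)), ?_⟩, ?_⟩
      · show ρ (u * ρ u) = u * ρ u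
        rw [map_mul, hρρ, mul_comm]
      · show ρ (u * (ρ u)⁻¹) = (u * (ρ u)⁻¹)⁻¹
        rw [map_mul, map_inv, hρρ, mul_inv_rev, inv_inv]
      · rw [mul_mul_mul_comm, hu, mul_inv_cancel, mul_one]
    have hint : ∀ x, x ∈ Wp → x ∈ Wm → x = 1 := fun x hp hm => hB.eq_one_of_fix_inv hp.2 hm.2
    by_cases hp : Wp = ⊥
    · left
      intro w hw
      obtain ⟨c, hc', v, hv, rfl⟩ := hdec w hw
      rw [hp, Subgroup.mem_bot] at hc'
      rw [hc', one_mul]
      exact hv.2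
    by_cases hm : Wm = ⊥
    · right
      intro w hw
      obtain ⟨c, hc', v, hv, rfl⟩ := hdec w hw
      rw [hm, Subgroup.mem_bot] at hv
      rw [hv, mul_one]
      exact hc'.2
    exfalso
    have hcyc : ∀ P : Subgroup M, P ≤ W → P ≠ ⊥ → P ≠ W → IsCyclic P := by
      intro P hP hPb hPt
      haveI := Fact.mk hσ.prime
      refine isCyclic_of_prime_card (p := 2 ^ f - 1) ?_
      have hd : Nat.card P ∣ (2 ^ f - 1) ^ 2 := hσ.card ▸ Subgroup.card_dvd_of_le hP
      obtain ⟨k, hk, hPk⟩ := (Nat.dvd_prime_pow hσ.prime).1 hd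
      interval_cases k
      · exact absurd (Subgroup.card_eq_one.1 (by simpa using hPk)) hPb
      · simpa using hPk
      · exact absurd (Subgroup.eq_of_le_of_card_ge hP (by rw [hPk]; exact hσ.card.le)) hPt
    have hpW : Wp ≠ W := fun h => hm (by
      rw [Subgroup.eq_bot_iff_forall]
      exact fun x hx => hint x (h.symm ▸ hx.1) hx)
    have hmW : Wm ≠ W := fun h => hp (by
      rw [Subgroup.eq_bot_iff_forall]
      exact fun x hx => hint x hx (h.symm ▸ hx.1))
    haveI := hcyc Wp inf_le_left hp hpW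
    haveI := hcyc Wm inf_le_left hm hmW
    have hiso : ∀ a ∈ W, ∀ b ∈ W, B a b = 1 := by
      intro a ha b hb
      obtain ⟨c, hc1, v, hv, rfl⟩ := hdec a ha
      obtain ⟨c', hc2, v', hv', rfl⟩ := hdec b hb
      simp only [map_mul, MonoidHom.mul_apply, hB.cyclic_iso hc1 hc2, hB.cyclic_iso hv hv',
        hB.perp hσ'.top_iso hc1.2 hv'.2, hB.eq_one_swap (hB.perp hσ'.top_iso hc2.2 hv.2), mul_one]
    obtain ⟨w, hw, hw1⟩ := hσ.exists_ne
    refine hw1 (hB.nd w fun k => ?_)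
    obtain ⟨c, v, hc', hv, rfl⟩ := hB.split hσ.top_sq k
    rw [map_mul, MonoidHom.mul_apply, hB.perp hσ.top_iso hc' hw, hiso v hv w hw, mul_one]
  rcases key hσ hσ' hc with h | h
  · left
    have he : mns (top f σ) = mns (top f σ') :=
      Subgroup.eq_of_le_of_card_ge h (by rw [hσ.card, hσ'.card])
    refine MulEquiv.ext fun m => ?_
    obtain ⟨c, w, hc', hw, rfl⟩ := hB.split hσ.top_sq m
    have hc2 : top f σ' c = c := hB.fix_of_perp hσ'.top_iso hσ'.top_sq fun v hv =>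
      hB.perp hσ.top_iso hc' (he ▸ hv)
    rw [map_mul, map_mul, hc', hc2, mem_mns.1 hw, mem_mns.1 (he ▸ hw : w ∈ mns (top f σ'))]
  · rcases key hσ' hσ hc.symm with h' | h'
    · obtain ⟨w, hw, hw1⟩ := hσ'.exists_ne
      exact absurd (hB.eq_one_of_fix_inv (h w (h' hw)) (mem_mns.1 hw)) hw1
    · exact Or.inr ⟨h, h'⟩

theorem disjoint_of_ne {f : ℕ} {σ σ' : MulAut M} (hσ : Exc B f σ) (hσ' : Exc B f σ')
    (hc : Commute (top f σ) (top f σ')) (hne : top f σ ≠ top f σ') :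
    (∀ w ∈ mns (top f σ), top f σ' w = w) ∧ ∀ w ∈ mns (top f σ'), top f σ w = w :=
  (commuting_tops hB hσ hσ' hc).resolve_left hne

/-- An exceptional element commutes with an invariant set of commuting tops. -/
theorem commute_of_invariant {f : ℕ} {σ : MulAut M} (hσ : Exc B f σ) (T : Set (MulAut M))
    (hT : ∀ ρ ∈ T, ∃ σ', Exc B f σ' ∧ top f σ' = ρ) (hcT : ∀ ρ ∈ T, ∀ ρ' ∈ T, Commute ρ ρ')
    (hinv : ∀ ρ ∈ T, σ * ρ * σ⁻¹ ∈ T) {ρ : MulAut M} (hρ : ρ ∈ T) : Commute σ ρ := by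
  by_contra hne
  obtain ⟨s, hs, rfl⟩ := hT ρ hρ
  set s₁ := σ * s * σ⁻¹ with hs1
  set s₂ := σ * s₁ * σ⁻¹ with hs2
  have he1 : Exc B f s₁ := hs.conj hσ.iso
  have he2 : Exc B f s₂ := he1.conj hσ.iso
  have ht1 : top f s₁ ∈ T := by rw [hs1, top_conj]; exact hinv _ hρ
  have ht2 : top f s₂ ∈ T := by rw [hs2, top_conj]; exact hinv _ ht1
  have h01 : top f s ≠ top f s₁ := fun h => hne (by
    rw [hs1, top_conj] at h
    exact (mul_inv_eq_iff_eq_mul.1 h.symm))
  obtain ⟨hP1, hP0⟩ := disjoint_of_ne hB hs he1 (hcT _ hρ _ ht1) h01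
  have hmap : ∀ {g : MulAut M} {w}, w ∈ mns (top f g) → σ w ∈ mns (top f (σ * g * σ⁻¹)) := by
    intro g w hw
    rw [top_conj, mem_mns_conj, ← MulAut.mul_apply, inv_mul_cancel, MulAut.one_apply]
    exact hw
  set τ := top f σ
  let d : mns (top f s) → mns τ := fun w => ⟨σ w * (w : M)⁻¹, hσ.move hB w⟩
  have hd : Function.Injective d := by
    intro a b h
    have h1 : σ a * (a : M)⁻¹ = σ b * (b : M)⁻¹ := congrArg Subtype.val h
    have h2 : σ ((a : M) * (b : M)⁻¹) = a * (b : M)⁻¹ := by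
      rw [← div_eq_mul_inv, ← div_eq_mul_inv, div_eq_div_iff_mul_eq_mul] at h1
      rw [map_mul, map_inv, ← div_eq_mul_inv, ← div_eq_mul_inv, div_eq_div_iff_mul_eq_mul]
      exact h1.trans (mul_comm _ _)
    have h3 : (a : M) * (b : M)⁻¹ ∈ mns (top f s) := mul_mem a.2 (inv_mem b.2)
    have h4 : (a : M) * (b : M)⁻¹ ∈ mns (top f s₁) := h2 ▸ hmap h3
    exact Subtype.ext (mul_inv_eq_one.1 (hB.eq_one_of_fix_inv (hP1 _ h3) (mem_mns.1 h4)))
  have hsurj := (hd.bijective_of_nat_card_le (by rw [hσ.card, hs.card])).2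
  have hfix2 : ∀ w ∈ mns (top f s), σ (σ w) = w := by
    intro w hw
    obtain ⟨⟨u, hu⟩, he⟩ := hsurj ⟨σ (σ w) * (σ w)⁻¹, hσ.move hB _⟩
    have he' : σ u * u⁻¹ = σ (σ w) * (σ w)⁻¹ := congrArg Subtype.val he
    have hprod : σ (σ w) * u = σ (w * u) := by
      rw [map_mul]
      calc σ (σ w) * u = σ (σ w) * (σ w)⁻¹ * (σ w * u) := by group
        _ = σ u * u⁻¹ * (σ w * u) := by rw [he']
        _ = σ w * σ u := by rw [mul_comm (σ w) u, mul_assoc, inv_mul_cancel_left, mul_comm]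
    by_cases h02 : top f s₂ = top f s
    · have hL : σ (σ w) * u ∈ mns (top f s) := mul_mem (h02 ▸ hmap (hmap hw)) hu
      have hR : σ (σ w) * u ∈ mns (top f s₁) := hprod ▸ hmap (mul_mem hw hu)
      have h1 := hB.eq_one_of_fix_inv (hP1 _ hL) (mem_mns.1 hR)
      have h2 : w * u = 1 := σ.injective (by rw [← hprod, h1, map_one])
      rw [eq_inv_of_mul_eq_one_left h1, eq_inv_of_mul_eq_one_left h2]
    · have h12 : top f s₁ ≠ top f s₂ := fun h => h01 (by
        have e1 := top_conj f σ s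
        have e2 := top_conj f σ s₁
        rw [← hs1] at e1
        rw [← hs2] at e2
        exact mul_left_cancel (mul_right_cancel (e1.symm.trans (h.trans e2))))
      obtain ⟨hA, -⟩ := disjoint_of_ne hB hs he2 (hcT _ hρ _ ht2) (Ne.symm h02)
      obtain ⟨hC, -⟩ := disjoint_of_ne hB he1 he2 (hcT _ ht1 _ ht2) h12
      have h1 : top f s₂ (σ (σ w)) = σ (σ w) := by
        rw [show σ (σ w) = σ (w * u) * u⁻¹ by rw [← hprod, mul_inv_cancel_right], map_mul,
          hC _ (hmap (mul_mem hw hu)), hA _ (inv_mem hu)]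
      have h2 := hB.eq_one_of_fix_inv h1 (mem_mns.1 (hmap (hmap hw)))
      have h3 : w = 1 := σ.injective (σ.injective (by rw [h2, map_one, map_one]))
      rw [h2, h3]
  -- the top fixes the plane of `s`, hence its own plane
  obtain ⟨k, hk⟩ : ∃ k, 2 ^ (f - 1) = 2 * k := ⟨2 ^ (f - 2), by
    have := hσ.two_le
    rw [← pow_succ']; congr 1; omega⟩
  have hτfix : ∀ w ∈ mns (top f s), τ w = w := by
    intro w hw
    show (σ ^ 2 ^ (f - 1)) w = w
    rw [hk, pow_mul]
    clear hk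
    induction k with
    | zero => rfl
    | succ k ih => rw [pow_succ, MulAut.mul_apply, show (σ ^ 2) w = w by rw [pow_two, MulAut.mul_apply, hfix2 w hw], ih]
  obtain ⟨v, hv, hv1⟩ := hσ.exists_ne
  obtain ⟨⟨u, hu⟩, he⟩ := hsurj ⟨v, hv⟩
  have he' : σ u * u⁻¹ = v := congrArg Subtype.val he
  refine hv1 (hB.eq_one_of_fix_inv (τ := τ) ?_ (mem_mns.1 hv))
  rw [← he', map_mul, map_inv, hσ.top_comm, hτfix u hu]

/-- In a two-group of isometries the conjugates of a top commute. -/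
theorem commute_conj (b : ℕ) : ∀ (K : Subgroup (MulAut M)), Nat.card K ≤ b → IsPGroup 2 K →
    K ≤ isom B → ∀ {f : ℕ} {σ : MulAut M}, Exc B f σ → σ ∈ K → ∀ g ∈ K,
    Commute (top f σ) (g * top f σ * g⁻¹) := by
  haveI : Finite (MulAut M) :=
    Finite.of_injective (fun g : MulAut M => (g : M → M)) DFunLike.coe_injective
  induction b with
  | zero => intro K hK; exact absurd hK (Nat.not_le.2 Nat.card_pos)
  | succ b ih =>
    intro K hKb hKp hKi f σ hσ hσK g hg
    haveI := hKp.isNilpotent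
    by_cases hcyc : ∃ i : ℤ, σ ^ i = g
    · obtain ⟨i, rfl⟩ := hcyc
      have h : Commute (σ ^ i) (top f σ) := ((Commute.refl σ).zpow_left i).pow_right _
      rw [h.eq, mul_inv_cancel_right]
    set z : K := ⟨σ, hσK⟩
    obtain hz | ⟨K1, hK1, hle⟩ := eq_top_or_exists_le_coatom (Subgroup.zpowers z)
    · have : (⟨g, hg⟩ : K) ∈ Subgroup.zpowers z := hz ▸ Subgroup.mem_top _
      obtain ⟨i, hi⟩ := Subgroup.mem_zpowers_iff.1 this
      exact absurd ⟨i, congrArg Subtype.val hi⟩ hcyc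
    haveI : K1.Normal := Subgroup.NormalizerCondition.normal_of_coatom K1 Group.normalizerCondition_of_isNilpotent hK1
    set L := K1.map K.subtype
    have hLK : L ≤ K := Subgroup.map_subtype_le K1
    have hlt : Nat.card L ≤ b := by
      have h1 : L < K := lt_of_le_of_ne hLK fun h => hK1.1 (Subgroup.map_injective
        K.subtype_injective (h.trans ((Subgroup.range_subtype K).symm.trans (MonoidHom.range_eq_map K.subtype))))
      have := Set.Finite.card_lt_card (Set.toFinite _) (SetLike.coe_ssubset_coe.2 h1)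
      have h2 : Nat.card L < Nat.card K := this
      omega
    have hσL : σ ∈ L := ⟨z, hle (Subgroup.mem_zpowers z), rfl⟩
    have hnorm : ∀ a ∈ K, ∀ k ∈ L, a * k * a⁻¹ ∈ L := by
      rintro a ha _ ⟨k, hk, rfl⟩
      exact ⟨_, ‹K1.Normal›.conj_mem k hk ⟨a, ha⟩, rfl⟩
    have hIH := ih L hlt (hKp.to_le hLK) (hLK.trans hKi) hσ hσL
    set τ := top f σ with hτ
    let T : Set (MulAut M) := {ρ | ∃ k ∈ L, g * (k * τ * k⁻¹) * g⁻¹ = ρ}
    have hmain : Commute σ (g * τ * g⁻¹) := by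
      refine commute_of_invariant hB hσ T ?_ ?_ ?_ ⟨1, one_mem _, by group⟩
      · rintro _ ⟨k, hk, rfl⟩
        exact ⟨g * (k * σ * k⁻¹) * g⁻¹, (hσ.conj (hKi (hLK hk))).conj (hKi hg), by
          rw [top_conj, top_conj]⟩
      · rintro _ ⟨k, hk, rfl⟩ _ ⟨k', hk', rfl⟩
        have h := hIH (k⁻¹ * k') (mul_mem (inv_mem hk) hk')
        have h' := h.map (MulAut.conj (g * k)).toMonoidHom
        simp only [MulEquiv.coe_toMonoidHom, MulAut.conj_apply] at h'
        convert h' using 1 <;> group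
      · rintro _ ⟨k, hk, rfl⟩
        refine ⟨g⁻¹ * σ * g * k, mul_mem ?_ hk, by group⟩
        simpa using hnorm g⁻¹ (inv_mem hg) σ hσL
    exact hmain.pow_left _

variable {K : Subgroup (MulAut M)} (hKp : IsPGroup 2 K) (hKi : K ≤ isom B)
include hKp hKi

theorem commute_top {f : ℕ} {σ σ' : MulAut M} (hσ : Exc B f σ) (hσ' : Exc B f σ') (h : σ ∈ K)
    (h' : σ' ∈ K) {g : MulAut M} (hg : g ∈ K) : Commute σ' (g * top f σ * g⁻¹) := by
  refine commute_of_invariant hB hσ' {ρ | ∃ k ∈ K, k * top f σ * k⁻¹ = ρ} ?_ ?_ ?_ ⟨g, hg, rfl⟩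
  · rintro _ ⟨k, hk, rfl⟩
    exact ⟨k * σ * k⁻¹, hσ.conj (hKi hk), top_conj _ _ _⟩
  · rintro _ ⟨k, hk, rfl⟩ _ ⟨k', hk', rfl⟩
    have h := commute_conj hB (Nat.card K) K le_rfl hKp hKi hσ h (k⁻¹ * k')
      (mul_mem (inv_mem hk) hk')
    have h' := h.map (MulAut.conj k).toMonoidHom
    simp only [MulEquiv.coe_toMonoidHom, MulAut.conj_apply] at h'
    convert h' using 1; group
  · rintro _ ⟨k, hk, rfl⟩
    exact ⟨σ' * k, mul_mem h' hk, by group⟩

/-- Two exceptional elements of a two-group have the same top or commute. -/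
theorem top_eq_or_commute {f : ℕ} {σ σ' : MulAut M} (hσ : Exc B f σ) (hσ' : Exc B f σ')
    (h : σ ∈ K) (h' : σ' ∈ K) :
    top f σ = top f σ' ∨ Commute σ σ' := by
  have hc : Commute (top f σ) (top f σ') := by
    have := commute_top hB hKp hKi hσ hσ' h h' (one_mem K)
    rw [one_mul, inv_one, mul_one] at this
    exact this.symm.pow_right _
  rcases commuting_tops hB hσ hσ' hc with he | ⟨h1, h2⟩
  · exact Or.inl he
  refine Or.inr (MulEquiv.ext fun m => ?_)
  rw [MulAut.mul_apply, MulAut.mul_apply]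
  obtain ⟨a, w, ha, hw, rfl⟩ := hB.split hσ.top_sq m
  obtain ⟨b, w', hb, hw', rfl⟩ := hB.split hσ'.top_sq a
  have hw'f : σ w' = w' := hσ.fixes _ (h2 _ hw')
  have hwf : σ' w = w := hσ'.fixes _ (h1 _ hw)
  have hbf : σ b = b := hσ.fixes _ (by
    rw [map_mul, h2 _ hw'] at ha
    exact mul_right_cancel ha)
  have hb' : σ' b = b := hσ'.fixes _ hb
  rw [map_mul σ', map_mul σ', hb', hwf, map_mul σ (b * w') w, map_mul σ b w', hbf, hw'f,
    map_mul σ, map_mul σ, hbf, hσ.fixes _ (h2 _ (hσ'.mapsTo hw')), map_mul σ', map_mul σ', hb',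
    hσ'.fixes _ (h1 _ (hσ.mapsTo hw))]

end Finite

end CfsgLib.FGS74.Bry
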