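import Cfsg.Agent.FGS74.Bry.Pairing
import Mathlib.GroupTheory.IndexNormal
import Mathlib.GroupTheory.Transfer

/-!
# The stabiliser of a plane in a two-group of isometries

It acts freely on the nontrivial elements of the plane, so an exceptional element commutes with its
conjugates when `f ≥ 3`; for `f = 2` it is odd for a suitable transfer.
-/

set_option autoImplicit false
set_option linter.style.haveILetI false

namespace CfsgLib.FGS74.Bry

universe u v

variable {M : Type u} [CommGroup M] [Finite M] {U : Type v} [CommGroup U] {B : M →* M →* U}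

/-- The stabiliser of a top. -/
def stab (K : Subgroup (MulAut M)) (τ : MulAut M) : Subgroup (MulAut M) :=
  K ⊓ Subgroup.centralizer {τ}

omit [Finite M] in
theorem mem_stab {K : Subgroup (MulAut M)} {τ g : MulAut M} :
    g ∈ stab K τ ↔ g ∈ K ∧ Commute τ g := by
  rw [stab, Subgroup.mem_inf, Subgroup.mem_centralizer_singleton_iff]
  exact and_congr Iff.rfl eq_comm

omit [Finite M] in
theorem stab_mapsTo {K : Subgroup (MulAut M)} {τ g : MulAut M} (hg : g ∈ stab K τ) {w : M}
    (hw : w ∈ mns τ) : g w ∈ mns τ := by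
  rw [mem_mns, ← MulAut.mul_apply, (mem_stab.1 hg).2.eq, MulAut.mul_apply, mem_mns.1 hw, map_inv]

/-- The restriction to the plane. -/
def res (K : Subgroup (MulAut M)) (τ : MulAut M) : stab K τ →* MulAut (mns τ) where
  toFun g :=
    { toFun := fun w => ⟨(g : MulAut M) w, stab_mapsTo g.2 w.2⟩
      invFun := fun w => ⟨((g⁻¹ : stab K τ) : MulAut M) w, stab_mapsTo (g⁻¹).2 w.2⟩
      left_inv := fun w => Subtype.ext (by
        show ((g⁻¹ : stab K τ) : MulAut M) ((g : MulAut M) w) = w
        rw [← MulAut.mul_apply, ← Subgroup.coe_mul, inv_mul_cancel]; rfl)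
      right_inv := fun w => Subtype.ext (by
        show (g : MulAut M) (((g⁻¹ : stab K τ) : MulAut M) w) = w
        rw [← MulAut.mul_apply, ← Subgroup.coe_mul, mul_inv_cancel]; rfl)
      map_mul' := fun a b => Subtype.ext (map_mul (g : MulAut M) _ _) }
  map_one' := MulEquiv.ext fun _ => rfl
  map_mul' _ _ := MulEquiv.ext fun _ => rfl

variable (hB : Form B) {K : Subgroup (MulAut M)} (hKp : IsPGroup 2 K) (hKi : K ≤ isom B)
  {f : ℕ} {σ : MulAut M}
include hB hKp hKi

omit hKp hKi in
/-- The plane is a nondegenerate plane: the orthogonal of a nontrivial element is its cyclic group. -/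
theorem perp_zpowers (hσ : Exc B f σ) {w v : mns (top f σ)} (hw : w ≠ 1)
    (hv : B (w : M) (v : M) = 1) : v ∈ Subgroup.zpowers w := by
  haveI := Fact.mk hσ.prime
  let P : Subgroup (mns (top f σ)) :=
    { carrier := {v | B (w : M) (v : M) = 1}
      one_mem' := map_one _
      mul_mem' := fun {a b} (ha : B (w : M) (a : M) = 1) (hb : B (w : M) (b : M) = 1) => by
        show B (w : M) ((a : M) * b) = 1
        rw [map_mul, ha, hb, one_mul]
      inv_mem' := fun {a} (ha : B (w : M) (a : M) = 1) => by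
        show B (w : M) ((a : M)⁻¹) = 1
        rw [map_inv, ha, inv_one] }
  have hPt : P ≠ ⊤ := by
    intro h
    refine hw (Subtype.ext (hB.nd _ fun k => ?_))
    obtain ⟨c, u, hc, hu, rfl⟩ := hB.split hσ.top_sq k
    rw [map_mul, MonoidHom.mul_apply, hB.perp hσ.top_iso hc w.2, one_mul]
    exact hB.eq_one_swap (show (⟨u, hu⟩ : (mns (top f σ))) ∈ P from h ▸ Subgroup.mem_top _)
  have how : orderOf w = 2 ^ f - 1 :=
    orderOf_eq_prime (Subtype.ext (hσ.exp _ w.2)) hw
  have hzP : Subgroup.zpowers w = P := by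
    refine Subgroup.eq_of_le_of_card_ge (Subgroup.zpowers_le.2 (hB.self _)) ?_
    obtain ⟨k, hk, hPk⟩ := (Nat.dvd_prime_pow hσ.prime).1 (hσ.card ▸ Subgroup.card_subgroup_dvd_card P)
    rw [Nat.card_zpowers, how, hPk]
    rcases Nat.lt_or_ge k 2 with h | h
    · exact (Nat.pow_le_pow_right hσ.prime.pos (by omega : k ≤ 1)).trans (pow_one _).le
    · obtain rfl : k = 2 := by omega
      exact absurd (Subgroup.eq_top_of_card_eq P (by rw [hPk, hσ.card])) hPt
  exact hzP ▸ hv

theorem res_free (hσ : Exc B f σ) {g : stab K (top f σ)} {w : mns (top f σ)} (hw : w ≠ 1)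
    (hgw : res K (top f σ) g w = w) : res K (top f σ) g = 1 := by
  set y := res K (top f σ) g with hy
  have hiso : ∀ a b : (mns (top f σ)), B (y a : M) (y b : M) = B (a : M) (b : M) := fun a b =>
    hKi (mem_stab.1 g.2).1 a b
  have hfix : ∀ v ∈ Subgroup.zpowers w, y v = v := fun v hv => by
    obtain ⟨i, rfl⟩ := Subgroup.mem_zpowers_iff.1 hv
    rw [map_zpow, hgw]
  have hd : ∀ v : (mns (top f σ)), y v * v⁻¹ ∈ Subgroup.zpowers w := fun v => by
    refine perp_zpowers hB hσ hw ?_
    show B (w : M) ((y v : M) * (v : M)⁻¹) = 1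
    have h1 := hiso w v
    rw [hgw] at h1
    rw [map_mul, map_inv, h1, mul_inv_cancel]
  have hpow : ∀ (n : ℕ) (v : (mns (top f σ))), (y ^ n) v = v * (y v * v⁻¹) ^ n := by
    intro n v
    induction n with
    | zero => simp
    | succ n ih =>
      rw [pow_succ', MulAut.mul_apply, ih, map_mul, map_pow, hfix _ (hd v), pow_succ', ← mul_assoc,
        ← mul_assoc]
      congr 1
      rw [mul_comm v (y v), mul_inv_cancel_right]
  obtain ⟨k, hk⟩ := hKp ⟨g, (mem_stab.1 g.2).1⟩
  have hyk : y ^ 2 ^ k = 1 := by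
    have : g ^ 2 ^ k = 1 := Subtype.ext (congrArg Subtype.val hk :)
    rw [hy, ← map_pow, this, map_one]
  refine MulEquiv.ext fun v => ?_
  have h1 := hpow (2 ^ k) v
  rw [hyk, MulAut.one_apply, left_eq_mul] at h1
  have h2 : orderOf (y v * v⁻¹) ∣ 2 ^ k := orderOf_dvd_of_pow_eq_one h1
  have h3 : Odd (orderOf (y v * v⁻¹)) := by
    rw [← Subgroup.orderOf_coe]
    exact hB.odd.of_dvd_nat (orderOf_dvd_natCard _)
  have h4 := Nat.eq_one_of_dvd_coprimes ((Nat.coprime_two_left.2 h3).pow_left k) h2 dvd_rfl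
  rw [orderOf_eq_one_iff, mul_inv_eq_one] at h4
  rw [h4, MulAut.one_apply]

theorem card_range (hσ : Exc B f σ) :
    ∃ k ≤ f + 1, Nat.card (res K (top f σ)).range = 2 ^ k := by
  classical
  set τ := top f σ
  set X := (res K τ).range
  haveI : Finite (MulAut M) :=
    Finite.of_injective (fun g : MulAut M => (g : M → M)) DFunLike.coe_injective
  haveI := Fintype.ofFinite (mns τ)
  have hXp : IsPGroup 2 X := by
    rintro ⟨_, g, rfl⟩
    obtain ⟨k, hk⟩ := hKp ⟨g, (mem_stab.1 g.2).1⟩
    refine ⟨k, Subtype.ext ?_⟩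
    show res K τ g ^ 2 ^ k = 1
    rw [← map_pow, show g ^ 2 ^ k = 1 from Subtype.ext (congrArg Subtype.val hk :), map_one]
  obtain ⟨k, hk⟩ := IsPGroup.iff_card.1 hXp
  refine ⟨k, ?_, hk⟩
  let N := {w : mns τ // w ≠ 1}
  letI : MulAction X N :=
    { smul := fun x w => ⟨(x : MulAut (mns τ)) w.1, fun h => w.2
        ((x : MulAut (mns τ)).injective (h.trans (map_one _).symm))⟩
      one_smul := fun w => Subtype.ext rfl
      mul_smul := fun x y w => Subtype.ext rfl }
  have hfree : ∀ w : N, MulAction.stabilizer X w = ⊥ := by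
    intro w
    rw [Subgroup.eq_bot_iff_forall]
    rintro ⟨_, g, rfl⟩ hg
    exact Subtype.ext (res_free hB hKp hKi hσ w.2 (congrArg Subtype.val hg))
  have h1 : 2 ^ k ∣ Nat.card N := by
    rw [← hk, Nat.card_congr (MulAction.selfEquivOrbitsQuotientProd hfree), Nat.card_prod]
    exact Dvd.intro_left _ rfl
  have h2 : Nat.card N = 2 ^ (f + 1) * (2 ^ (f - 1) - 1) := by
    have h3 : Nat.card N + 1 = (2 ^ f - 1) ^ 2 := by
      rw [← hσ.card]
      show Nat.card N + 1 = Nat.card (mns τ)
      rw [Nat.card_eq_fintype_card, Nat.card_eq_fintype_card, Fintype.card_subtype_compl,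
        Fintype.card_subtype_eq]
      have : 0 < Fintype.card (mns τ) := Fintype.card_pos
      omega
    obtain ⟨z, hz⟩ : ∃ z, 2 ^ (f - 1) = z + 1 :=
      ⟨2 ^ (f - 1) - 1, by have := Nat.one_le_two_pow (n := f - 1); omega⟩
    have e1 : 2 ^ f = 2 * (z + 1) := by
      rw [← hz, ← pow_succ', Nat.sub_add_cancel (by have := hσ.two_le; omega)]
    rw [e1, show 2 * (z + 1) - 1 = 2 * z + 1 by omega] at h3
    rw [pow_succ, e1, hz, Nat.add_sub_cancel]
    nlinarith
  rw [h2] at h1
  have hodd : Odd (2 ^ (f - 1) - 1) :=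
    Nat.Even.sub_odd Nat.one_le_two_pow
      ((Nat.even_pow' (by have := hσ.two_le; omega)).2 even_two) odd_one
  exact (Nat.pow_dvd_pow_iff_le_right (by norm_num)).1
    (((Nat.coprime_two_left.2 hodd).pow_left k).dvd_of_dvd_mul_right h1)

/-- For `f ≥ 3` an exceptional element commutes with its conjugates in the two-group. -/
theorem commute_conj_self (hσ : Exc B f σ) (hf : 3 ≤ f) (hσK : σ ∈ K) {c : MulAut M} (hc : c ∈ K) :
    Commute σ (c * σ * c⁻¹) := by
  haveI : Finite (MulAut M) :=
    Finite.of_injective (fun g : MulAut M => (g : M → M)) DFunLike.coe_injective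
  rcases top_eq_or_commute hB hKp hKi hσ (hσ.conj (hKi hc)) hσK
    (mul_mem (mul_mem hc hσK) (inv_mem hc)) with h | h
  swap
  · exact h
  rw [top_conj] at h
  set τ := top f σ with hτ
  have hcS : c ∈ stab K τ := mem_stab.2 ⟨hc, by
    rw [eq_mul_inv_iff_mul_eq] at h
    exact h⟩
  have hσS : σ ∈ stab K τ := mem_stab.2 ⟨hσK, (Commute.refl σ).pow_left _⟩
  obtain ⟨k, hk, hX⟩ := card_range hB hKp hKi hσ
  set r := res K τ
  set a : r.range := ⟨r ⟨σ, hσS⟩, ⟨σ, hσS⟩, rfl⟩
  have hord : orderOf a = 2 ^ f := by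
    rw [show f = f - 1 + 1 by omega]
    refine orderOf_eq_prime_pow (fun h1 => ?_) ?_
    · obtain ⟨w, hw, hw1⟩ := hσ.exists_ne
      have h2 := DFunLike.congr_fun (congrArg Subtype.val h1) (⟨w, hw⟩ : mns τ)
      rw [Subgroup.coe_pow, Subgroup.coe_one, MulAut.one_apply] at h2
      have h3 : (r ⟨σ, hσS⟩ ^ 2 ^ (f - 1)) (⟨w, hw⟩ : mns τ) = (⟨w, hw⟩ : mns τ)⁻¹ := by
        rw [← map_pow]
        exact Subtype.ext hw
      rw [show ((a : MulAut (mns τ)) ^ 2 ^ (f - 1)) = r ⟨σ, hσS⟩ ^ 2 ^ (f - 1) from rfl, h3] at h2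
      exact hw1 (hB.eq_one_of_fix_inv (τ := (1 : MulAut M)) (m := w) rfl
        (congrArg Subtype.val h2).symm)
    · rw [Nat.sub_add_cancel (by omega)]
      refine Subtype.ext ?_
      show r ⟨σ, hσS⟩ ^ 2 ^ f = 1
      rw [← map_pow, show (⟨σ, hσS⟩ : stab K τ) ^ 2 ^ f = 1 from Subtype.ext hσ.pow_q, map_one]
  -- the cyclic subgroup has index at most two
  have hnorm : (Subgroup.zpowers a).Normal := by
    have h1 := (Subgroup.zpowers a).card_mul_index
    rw [Nat.card_zpowers, hord, hX] at h1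
    have hfk : f ≤ k := (Nat.pow_dvd_pow_iff_le_right (by norm_num)).1 ⟨_, h1.symm⟩
    rcases (show k = f ∨ k = f + 1 by omega) with rfl | rfl
    · exact Subgroup.normal_of_index_eq_one
        (Nat.eq_of_mul_eq_mul_left (Nat.two_pow_pos k) (h1.trans (mul_one _).symm))
    · refine Subgroup.normal_of_index_eq_two (Nat.eq_of_mul_eq_mul_left (pow_pos two_pos f) ?_)
      rw [h1, pow_succ]
  set q : r.range := ⟨r ⟨c, hcS⟩, ⟨c, hcS⟩, rfl⟩
  obtain ⟨i, hi⟩ := Subgroup.mem_zpowers_iff.1 (hnorm.conj_mem a (Subgroup.mem_zpowers a) q)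
  have hcomm : Commute a (q * a * q⁻¹) := hi ▸ (Commute.refl a).zpow_right i
  refine MulEquiv.ext fun m => ?_
  obtain ⟨d, w, hd, hw, rfl⟩ := hB.split hσ.top_sq m
  have hcd : (c * σ * c⁻¹) d = d := by
    refine (hσ.conj (hKi hc)).fixes d ?_
    rw [top_conj, ← h]
    exact hd
  have hw' := DFunLike.congr_fun (congrArg Subtype.val hcomm.eq) (⟨w, hw⟩ : mns τ)
  show σ ((c * σ * c⁻¹) (d * w)) = (c * σ * c⁻¹) (σ (d * w))
  rw [map_mul (c * σ * c⁻¹), hcd, map_mul σ, hσ.fixes d hd, map_mul σ, hσ.fixes d hd,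
    map_mul (c * σ * c⁻¹), hcd]
  congr 1
  exact congrArg Subtype.val hw'

/-- For `f = 2` there is a character that is nontrivial at `σ` and trivial on involutions. -/
theorem exists_parity (hσ : Exc B 2 σ) (hσK : σ ∈ K) :
    ∃ (A : Type u) (_ : CommGroup A) (χ : K →* A), χ ⟨σ, hσK⟩ ≠ 1 ∧ (∀ g : K, χ g * χ g = 1) ∧
      ∀ g : K, g * g = 1 → χ g = 1 := by
  classical
  haveI : Finite (MulAut M) :=
    Finite.of_injective (fun g : MulAut M => (g : M → M)) DFunLike.coe_injective
  set τ := top 2 σ with hτ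
  set W := mns τ
  set r := res K τ with hr
  have hinvone : ∀ y : r.range, orderOf y ∣ 4 := by
    intro y
    obtain ⟨k, hk, hX⟩ := card_range hB hKp hKi hσ
    have hdvd : orderOf y ∣ 8 := (orderOf_dvd_natCard y).trans (hX ▸ pow_dvd_pow 2 hk)
    obtain ⟨j, hj, hjy⟩ := (Nat.dvd_prime_pow Nat.prime_two).1 (show orderOf y ∣ 2 ^ 3 from hdvd)
    rcases Nat.lt_or_ge j 3 with hj' | hj'
    · rw [hjy]; exact pow_dvd_pow 2 (by omega : j ≤ 2)
    exfalso
    obtain rfl : j = 3 := by omega
    obtain ⟨_, g, rfl⟩ := y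
    set y := r g
    have hy8 : orderOf y = 8 := by rw [← Subgroup.orderOf_coe] at hjy; exact hjy
    have hfree : ∀ n : ℕ, ∀ v : W, v ≠ 1 → (y ^ n) v = v → 8 ∣ n := by
      intro n v hv hn
      have h2 : r (g ^ n) = 1 := res_free hB hKp hKi hσ hv (g := g ^ n) (by rw [← hr, map_pow]; exact hn)
      rw [map_pow] at h2
      exact hy8 ▸ orderOf_dvd_of_pow_eq_one h2
    haveI := Fintype.ofFinite W
    obtain ⟨w, hw, hw1⟩ := hσ.exists_ne
    set w : W := ⟨w, hw⟩
    have hw1' : w ≠ 1 := fun h => hw1 (congrArg Subtype.val h)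
    -- the cyclic group of order eight is transitive
    let F : Option (Fin 8) → W := fun o => o.elim 1 fun i => (y ^ (i : ℕ)) w
    have hne : ∀ n : ℕ, (y ^ n) w ≠ 1 := fun n h => hw1' ((y ^ n).injective (h.trans (map_one _).symm))
    have hF : Function.Injective F := by
      have key : ∀ i j : ℕ, i < j → j < 8 → (y ^ i) w ≠ (y ^ j) w := by
        intro i j hij hj h
        have h' : (y ^ (j - i)) w = w := (y ^ i).injective (by
          rw [← MulAut.mul_apply, ← pow_add, Nat.add_sub_cancel' hij.le, h])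
        have := Nat.le_of_dvd (by omega) (hfree _ w hw1' h')
        omega
      rintro (_ | a) (_ | b) h
      · rfl
      · exact absurd h.symm (hne _)
      · exact absurd h (hne _)
      · rcases lt_trichotomy (a : ℕ) b with hlt | heq | hlt
        · exact absurd h (key _ _ hlt b.2)
        · rw [Fin.ext heq]
        · exact absurd h.symm (key _ _ hlt a.2)
    have hsurj := (hF.bijective_of_nat_card_le (by
      rw [Finite.card_option, Nat.card_fin, hσ.card]; norm_num)).2
    set φ : W → U := fun v => B (v : M) (y v : M) with hφ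
    have hiso : ∀ a b : W, B (y a : M) (y b : M) = B (a : M) (b : M) := fun a b =>
      hKi (mem_stab.1 g.2).1 a b
    have hconst : ∀ v : W, v ≠ 1 → φ v = φ w := by
      intro v hv
      obtain ⟨o, rfl⟩ := hsurj v
      rcases o with _ | i
      · exact absurd rfl hv
      show φ ((y ^ (i : ℕ)) w) = φ w
      induction (i : ℕ) with
      | zero => rfl
      | succ n ih => rw [pow_succ', MulAut.mul_apply, ← ih]; exact hiso _ _
    obtain ⟨v, hv⟩ : ∃ v : W, v ∉ Subgroup.zpowers w := by
      by_contra h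
      push Not at h
      have hle := Subgroup.card_le_of_le (H := (⊤ : Subgroup W)) (fun v _ => h v)
      rw [Subgroup.card_top, Nat.card_zpowers, orderOf_eq_prime (p := 3)
        (Subtype.ext (hσ.exp _ w.2)) hw1', hσ.card] at hle
      norm_num at hle
    have hφ1 : φ w = 1 := by
      have hv1 : v ≠ 1 := fun h => hv (h ▸ one_mem _)
      have hp : w * v ≠ 1 := fun h => hv (eq_inv_of_mul_eq_one_right h ▸ inv_mem (Subgroup.mem_zpowers w))
      have hm : w * v⁻¹ ≠ 1 := fun h => hv (mul_inv_eq_one.1 h ▸ Subgroup.mem_zpowers w)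
      have hpar : φ (w * v) * φ (w * v⁻¹) = φ w * φ w * (φ v * φ v) := by
        have key : ∀ a b c d : U, a * b * (c * d) * (a * b⁻¹ * (c⁻¹ * d)) = a * a * (d * d) := by
          intro a b c d
          rw [mul_mul_mul_comm, mul_mul_mul_comm a b, mul_inv_cancel, mul_one,
            mul_mul_mul_comm c d, mul_inv_cancel, one_mul]
        have e1 : ∀ a b : W, φ (a * b) = φ a * B (b : M) (y a : M) * (B (a : M) (y b : M) * φ b) := by
          intro a b
          show B ((a * b : W) : M) (y (a * b) : M) = _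
          rw [map_mul y, Subgroup.coe_mul, Subgroup.coe_mul, map_mul B, MonoidHom.mul_apply,
            map_mul, map_mul, mul_mul_mul_comm]
        have e2 : φ v⁻¹ = φ v := by
          show B ((v⁻¹ : W) : M) (y v⁻¹ : M) = B (v : M) (y v : M)
          rw [map_inv y, Subgroup.coe_inv, Subgroup.coe_inv, map_inv B, MonoidHom.inv_apply,
            map_inv, inv_inv]
        rw [e1, e1, e2, Subgroup.coe_inv, map_inv B, MonoidHom.inv_apply, map_inv y,
          Subgroup.coe_inv, map_inv (B (w : M))]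
        exact key _ _ _ _
      rw [hconst v hv1, hconst _ hp, hconst _ hm, left_eq_mul] at hpar
      exact hB.value_eq_one hpar
    obtain ⟨i, hi⟩ := Subgroup.mem_zpowers_iff.1 (perp_zpowers hB hσ hw1' (v := y w) hφ1)
    have h1 : (y ^ 2) w = w := by
      rw [pow_two, MulAut.mul_apply, ← hi, map_zpow, ← hi, ← zpow_mul, eq_comm]
      conv_lhs => rw [← zpow_one w]
      refine zpow_eq_zpow_iff_modEq.2 ?_
      rw [orderOf_eq_prime (p := 3) (Subtype.ext (hσ.exp _ w.2)) hw1']
      have h3 : i % 3 ≠ 0 := fun h => hne 1 (by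
        rw [pow_one, ← hi, zpow_eq_one_iff_modEq, orderOf_eq_prime (p := 3)
          (Subtype.ext (hσ.exp _ w.2)) hw1']
        exact h)
      show (1 : ℤ) % (3 : ℕ) = i * i % (3 : ℕ)
      rw [Int.mul_emod]
      have := Int.emod_nonneg i (show (3 : ℤ) ≠ 0 by norm_num)
      have := Int.emod_lt_of_pos i (show (0 : ℤ) < 3 by norm_num)
      interval_cases h : i % 3 <;> simp_all
    have := Nat.le_of_dvd (by norm_num) (hfree 2 w hw1' h1)
    omega
  -- the elements acting as scalars
  let Z : Subgroup (stab K τ) :=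
    { carrier := {g | r g = 1 ∨ ∀ w : W, r g w = w⁻¹}
      one_mem' := Or.inl (map_one r)
      mul_mem' := by
        intro a b ha hb
        rcases ha with ha | ha <;> rcases hb with hb | hb
        · exact Or.inl (by rw [map_mul, ha, hb, one_mul])
        · exact Or.inr fun w => by rw [map_mul, ha, one_mul]; exact hb w
        · exact Or.inr fun w => by rw [map_mul, hb, mul_one]; exact ha w
        · exact Or.inl (MulEquiv.ext fun w => by
            rw [map_mul, MulAut.mul_apply, hb, map_inv, ha, inv_inv, MulAut.one_apply])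
      inv_mem' := by
        intro a ha
        rcases ha with ha | ha
        · exact Or.inl (by rw [map_inv, ha, inv_one])
        · refine Or.inr fun w => ?_
          rw [map_inv]
          exact (MulEquiv.symm_apply_eq _).2 (by rw [ha, inv_inv]) }
  have hinvol : ∀ g : stab K τ, r g * r g = 1 → g ∈ Z := by
    intro g hg
    by_cases h : r g = 1
    · exact Or.inl h
    refine Or.inr fun w => ?_
    by_contra hne
    have h1 : r g (w * r g w) = w * r g w := by
      rw [map_mul, ← MulAut.mul_apply, hg, MulAut.one_apply, mul_comm]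
    exact h (res_free hB hKp hKi hσ (fun hh => hne (eq_inv_of_mul_eq_one_right hh)) h1)
  have hsq : ∀ g : stab K τ, g * g ∈ Z := fun g => hinvol _ (by
    have h := orderOf_dvd_iff_pow_eq_one.1 (hinvone ⟨r g, g, rfl⟩)
    have h' : r g ^ 4 = 1 := congrArg Subtype.val h
    rw [map_mul, ← h']
    simp only [pow_succ, pow_zero, one_mul, mul_assoc])
  have hσS : σ ∈ stab K τ := mem_stab.2 ⟨hσK, (Commute.refl σ).pow_left _⟩
  set s : stab K τ := ⟨σ, hσS⟩
  have hsZ : s ∉ Z := by
    obtain ⟨w, hw, hw1⟩ := hσ.exists_ne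
    rintro (h | h)
    · exact hσ.npow w hw hw1 1 (by
        rw [pow_one]; exact congrArg Subtype.val (DFunLike.congr_fun h (⟨w, hw⟩ : W)))
    · refine hσ.npow w hw hw1 (2 ^ 2 - 2) ?_
      rw [show σ w = w⁻¹ from congrArg Subtype.val (h (⟨w, hw⟩ : W))]
      refine (eq_inv_of_mul_eq_one_left ?_).symm
      rw [← pow_succ]
      exact hσ.exp w hw
  obtain ⟨L, hL⟩ := exists_maximal_of_wellFoundedGT (fun L : Subgroup (stab K τ) => Z ≤ L ∧ s ∉ L)
    ⟨Z, le_rfl, hsZ⟩
  obtain ⟨hZL, hsL⟩ := hL.prop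
  have hcommL : ∀ a b : stab K τ, a * b * a⁻¹ * b⁻¹ ∈ L := fun a b => by
    have h : a * b * a⁻¹ * b⁻¹ = (a * b) * (a * b) * (b⁻¹ * a⁻¹ * b * (b⁻¹ * a⁻¹ * b)) * (b⁻¹ * b⁻¹) := by
      group
    rw [h]
    exact mul_mem (mul_mem (hZL (hsq _)) (hZL (hsq _))) (hZL (hsq b⁻¹))
  haveI hLn : L.Normal := ⟨fun n hn g => by
    rw [show g * n * g⁻¹ = g * n * g⁻¹ * n⁻¹ * n by group]
    exact mul_mem (hcommL g n) hn⟩
  letI : CommGroup (stab K τ ⧸ L) :=
    { (inferInstance : Group (stab K τ ⧸ L)) with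
      mul_comm := fun a b => by
        induction a using QuotientGroup.induction_on with
        | _ a =>
          induction b using QuotientGroup.induction_on with
          | _ b =>
            rw [← QuotientGroup.mk_mul, ← QuotientGroup.mk_mul, QuotientGroup.eq,
              show (a * b)⁻¹ * (b * a) = b⁻¹ * a⁻¹ * b⁻¹⁻¹ * a⁻¹⁻¹ by group]
            exact hcommL _ _ }
  set S := (stab K τ).subgroupOf K with hS
  let ι : S →* stab K τ :=
    (Subgroup.subgroupOfEquivOfLe (show stab K τ ≤ K from inf_le_left)).toMonoidHom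
  let φ : S →* stab K τ ⧸ L := (QuotientGroup.mk' L).comp ι
  haveI : S.FiniteIndex := inferInstance
  refine ⟨_, inferInstance, MonoidHom.transfer φ, ?_, ?_, ?_⟩
  rotate_left
  · intro g
    have h : ∀ a : stab K τ ⧸ L, a * a = 1 := fun a => by
      induction a using QuotientGroup.induction_on with
      | _ a => rw [← QuotientGroup.mk_mul, QuotientGroup.eq_one_iff]; exact hZL (hsq a)
    exact h _
  · intro g hg
    haveI : Fintype (Quotient (MulAction.orbitRel (Subgroup.zpowers g) (K ⧸ S))) := Fintype.ofFinite _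
    rw [MonoidHom.transfer_eq_prod_quotient_orbitRel_zpowers_quot]
    refine Finset.prod_eq_one fun q _ => ?_
    refine (QuotientGroup.eq_one_iff _).2 (hZL (hinvol _ ?_))
    rw [← map_mul, ← map_mul]
    refine (congrArg r ((congrArg ι (Subtype.ext ?_)).trans (map_one ι))).trans (map_one r)
    simp only [Subgroup.coe_mul, Subgroup.coe_one]
    rw [show ∀ a b : K, a⁻¹ * g ^ (Function.minimalPeriod (g • ·) q.out) * a *
        (a⁻¹ * g ^ (Function.minimalPeriod (g • ·) q.out) * a) =
        a⁻¹ * (g * g) ^ (Function.minimalPeriod (g • ·) q.out) * a from fun a _ => by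
          rw [(Commute.refl g).mul_pow]; group, hg, one_pow, mul_one, inv_mul_cancel]
    exact g
  · set z : K := ⟨σ, hσK⟩
    haveI : Fintype (Quotient (MulAction.orbitRel (Subgroup.zpowers z) (K ⧸ S))) := Fintype.ofFinite _
    have hcom : ∀ a : K, Commute σ ((a : MulAut M) * τ * (a : MulAut M)⁻¹) := fun a =>
      commute_top hB hKp hKi hσ hσ hσK hσK a.2
    have hfixed : ∀ Y : K ⧸ S, z • Y = Y := by
      intro Y
      induction Y using QuotientGroup.induction_on with
      | _ a =>
        show ((z * a : K) : K ⧸ S) = (a : K ⧸ S)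
        rw [QuotientGroup.eq, hS, Subgroup.mem_subgroupOf]
        refine mem_stab.2 ⟨(((z * a)⁻¹ * a : K)).2, ?_⟩
        have h1 := ((hcom a).map (MulAut.conj (a : MulAut M)⁻¹).toMonoidHom).inv_left
        simp only [MulEquiv.coe_toMonoidHom, MulAut.conj_apply] at h1
        convert h1.symm using 1 <;> simp [z] <;> group
    have hper : ∀ Y : K ⧸ S, Function.minimalPeriod (z • ·) Y = 1 := fun Y =>
      Function.minimalPeriod_eq_one_iff_isFixedPt.2 (hfixed Y)
    rw [MonoidHom.transfer_eq_prod_quotient_orbitRel_zpowers_quot]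
    have horb : ∀ Y Y' : K ⧸ S, (MulAction.orbitRel (Subgroup.zpowers z) (K ⧸ S)).r Y Y' → Y = Y' := by
      rintro Y Y' ⟨⟨_, i, rfl⟩, h⟩
      rw [← h]
      have : z ∈ MulAction.stabilizer K Y' := hfixed Y'
      exact zpow_mem this i
    set q₀ : Quotient (MulAction.orbitRel (Subgroup.zpowers z) (K ⧸ S)) :=
      Quotient.mk _ ((1 : K) : K ⧸ S) with hq₀
    have hout : q₀.out = ((1 : K) : K ⧸ S) := horb _ _ (Quotient.mk_out (s := MulAction.orbitRel _ _) _)
    have hmem : ∀ a : K, (a : MulAut M)⁻¹ * σ * a ∈ stab K τ := fun a => by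
      have h := hfixed (a : K ⧸ S)
      have h' : ((z * a : K) : K ⧸ S) = (a : K ⧸ S) := h
      rw [QuotientGroup.eq, hS, Subgroup.mem_subgroupOf] at h'
      have h'' := inv_mem h'
      simpa [z, mul_assoc] using h''
    have hval : ∀ (a : K) (n : ℕ) (hn : a⁻¹ * z ^ n * a ∈ S), n = 1 →
        φ ⟨a⁻¹ * z ^ n * a, hn⟩ = QuotientGroup.mk' L ⟨(a : MulAut M)⁻¹ * σ * a, hmem a⟩ := by
      intro a n hn h
      subst h
      show QuotientGroup.mk' L (ι _) = _
      congr 1
    rw [Finset.prod_eq_single q₀]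
    · rw [hval _ _ _ (hper _)]
      intro h
      refine hsL ?_
      have h1 := (QuotientGroup.eq_one_iff _).1 h
      have h2 : q₀.out.out ∈ S := by
        have h3 : ((q₀.out.out : K) : K ⧸ S) = ((1 : K) : K ⧸ S) := by
          rw [QuotientGroup.out_eq', hout]
        rw [QuotientGroup.eq, mul_one] at h3
        exact inv_inv (q₀.out.out) ▸ inv_mem h3
      set b : stab K τ := ⟨(q₀.out.out : MulAut M), h2⟩
      have h3 := hLn.conj_mem _ h1 b
      convert h3 using 1
      apply Subtype.ext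
      simp [b, s]
      group
    · intro q _ hq
      rw [hval _ _ _ (hper _)]
      refine (QuotientGroup.eq_one_iff _).2 (hZL (Or.inl ?_))
      set a : K := q.out.out
      have hne : top 2 ((a : MulAut M)⁻¹ * σ * (a : MulAut M)) ≠ τ := by
        intro h
        refine hq ?_
        have h' := top_conj 2 (a : MulAut M)⁻¹ σ
        rw [inv_inv] at h'
        rw [h', ← hτ] at h
        have ha : a ∈ S := by
          rw [hS, Subgroup.mem_subgroupOf]
          refine mem_stab.2 ⟨a.2, ?_⟩
          show τ * a = a * τ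
          conv_rhs => arg 2; rw [← h]
          group
        have h4 : q.out = ((1 : K) : K ⧸ S) := by
          rw [← QuotientGroup.out_eq' q.out, QuotientGroup.eq, mul_one]
          exact inv_mem ha
        rw [← Quotient.out_eq q, h4, hq₀]
      have hex : Exc B 2 ((a : MulAut M)⁻¹ * σ * a) := by
        have := hσ.conj (g := (a : MulAut M)⁻¹) (hKi (inv_mem a.2))
        rwa [inv_inv] at this
      rcases commuting_tops hB hσ hex (by
        have h' := top_conj 2 (a : MulAut M)⁻¹ σ
        rw [inv_inv] at h'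
        have h5 := (hcom a⁻¹).pow_left (2 ^ (2 - 1))
        rw [h']
        simpa [z, top, hτ] using h5) with h | ⟨h, -⟩
      · exact absurd h.symm hne
      exact MulEquiv.ext fun w => Subtype.ext (hex.fixes w (h w w.2))
    · exact fun h => absurd (Finset.mem_univ _) h

end CfsgLib.FGS74.Bry
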